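import Groth.Agent.Grpsch.PicGrp
import Groth.Agent.Picfga.LineDescent
import Groth.Agent.Ega3B.PullTensor

/-!
# Gluing invertible modules along one unit, and changing an invertible module at one place
-/

set_option autoImplicit false
universe u

open CategoryTheory CategoryTheory.Limits AlgebraicGeometry Opposite TopologicalSpace

namespace K549.PicGlue

open Groth.Agent
open Groth.Agent.Grpsch.PicGrp
open Groth.Agent.Fdesc.LocGen hiding tmul smul_tmul tmul_smul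
open Groth.Agent.Ega2.Tens (tmul tmul_res smul_tmul tmul_smul)
open Groth.Agent.Ega3B.PullTensor (isGen_tmul)

variable {Y X X₀ : Scheme.{u}}

/-- The two-element cover. -/
def two (A B : Y.Opens) : ULift.{u} Bool → Y.Opens
  | ⟨true⟩ => B
  | ⟨false⟩ => A

/-- The cocycle of a unit. -/
noncomputable def coc {A B : Y.Opens} (v v' : Γ(Y, A ⊓ B)) :
    ∀ i j : ULift.{u} Bool, Γ(Y, two A B i ⊓ two A B j)
  | ⟨true⟩, ⟨true⟩ => 1
  | ⟨false⟩, ⟨false⟩ => 1
  | ⟨true⟩, ⟨false⟩ => ores (le_of_eq (inf_comm _ _) : B ⊓ A ≤ A ⊓ B) v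
  | ⟨false⟩, ⟨true⟩ => v'

theorem iSup_two {A B : Y.Opens} (h : A ⊔ B = ⊤) : ⨆ i, two A B i = ⊤ := by
  rw [eq_top_iff, ← h]
  exact sup_le (le_iSup (two A B) ⟨false⟩) (le_iSup (two A B) ⟨true⟩)

/-- Gluing the structure sheaf along a unit. -/
theorem exists_glue (A B : Y.Opens) (h : A ⊔ B = ⊤) (v v' : Γ(Y, A ⊓ B)) (hv : v * v' = 1) :
    ∃ (M : Y.Modules) (_ : PicF.IsInvertible M) (a : Γ(M, A)) (b : Γ(M, B)),
      IsGen a ∧ IsGen b ∧ res M inf_le_right b = v • res M (inf_le_left : A ⊓ B ≤ A) a := by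
  obtain ⟨M, e, he, hg⟩ := Picfga.LineCocycle.exists_of_cocycle (two A B) (coc v v')
    (by rintro ⟨_ | _⟩ <;> rfl)
    (by
      have hv2 : ∀ (T : Y.Opens) (hT : T ≤ A ⊓ B), ores hT v * ores hT v' = 1 := by
        intro T hT
        rw [← map_mul, hv, map_one]
      have hv3 : ∀ (T : Y.Opens) (hA : T ≤ A) (hB : T ≤ B),
          (ores (le_inf hB hA) (ores (le_of_eq (inf_comm _ _) : B ⊓ A ≤ A ⊓ B) v) : Γ(Y, T)) *
            ores (le_inf hA hB) v' = 1 := by
        intro T hA hB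
        rw [ores_ores]
        exact hv2 T _
      rintro ⟨_ | _⟩ ⟨_ | _⟩ ⟨_ | _⟩ T hi hj hk
      · change ores _ (1 : Γ(Y, A ⊓ A)) = ores _ (1 : Γ(Y, A ⊓ A)) * ores _ (1 : Γ(Y, A ⊓ A))
        rw [map_one, mul_one]
      · change ores _ v' = ores _ (1 : Γ(Y, A ⊓ A)) * ores _ v'
        rw [map_one, one_mul]
      · change ores _ (1 : Γ(Y, A ⊓ A)) = ores _ v' * ores _ (ores _ v)
        rw [map_one, mul_comm]
        exact (hv3 T hi hj).symm
      · change ores _ v' = ores _ v' * ores _ (1 : Γ(Y, B ⊓ B))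
        rw [map_one, mul_one]
      · change ores _ (ores _ v) = ores _ (ores _ v) * ores _ (1 : Γ(Y, A ⊓ A))
        rw [map_one, mul_one]
      · change ores _ (1 : Γ(Y, B ⊓ B)) = ores _ (ores _ v) * ores _ v'
        rw [map_one]
        exact (hv3 T hj hi).symm
      · change ores _ (ores _ v) = ores _ (1 : Γ(Y, B ⊓ B)) * ores _ (ores _ v)
        rw [map_one, one_mul]
      · change ores _ (1 : Γ(Y, B ⊓ B)) = ores _ (1 : Γ(Y, B ⊓ B)) * ores _ (1 : Γ(Y, B ⊓ B))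
        rw [map_one, mul_one])
  refine ⟨M, Picfga.LineDescent.isInvertible_of_gens (iSup_two h) he, e ⟨false⟩, e ⟨true⟩,
    he ⟨false⟩, he ⟨true⟩, ?_⟩
  have h1 := hg ⟨true⟩ ⟨false⟩
  have key : ∀ (eA : Γ(M, A)) (eB : Γ(M, B)), res M (inf_le_left : B ⊓ A ≤ B) eB =
      ores (le_of_eq (inf_comm _ _) : B ⊓ A ≤ A ⊓ B) v • res M (inf_le_right : B ⊓ A ≤ A) eA →
      res M inf_le_right eB = v • res M (inf_le_left : A ⊓ B ≤ A) eA := by
    intro eA eB h1
    have h2 := congrArg (res M (le_of_eq (inf_comm _ _) : A ⊓ B ≤ B ⊓ A)) h1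
    rw [res_res, res_smul, res_res, ores_ores] at h2
    rw [ores_refl] at h2
    exact h2
  exact key _ _ h1

/-- Gluing two sections. -/
theorem glue_sections (L : Y.Modules) {W V : Y.Opens} {w : Γ(L, W)} {e : Γ(L, V)} (hw : IsGen w)
    (he : IsGen e) (h : res L (inf_le_left : W ⊓ V ≤ W) w = res L inf_le_right e) :
    ∃ s : Γ(L, W ⊔ V), IsGen s := by
  let U : Bool → Y.Opens := fun b => match b with
    | true => V
    | false => W
  have hU : ∀ b, U b ≤ W ⊔ V := by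
    rintro (_ | _)
    · exact le_sup_left
    · exact le_sup_right
  have hc : W ⊔ V ≤ ⨆ b, U b := sup_le (le_iSup U false) (le_iSup U true)
  let t : ∀ b, Γ(L, U b) := fun b => match b with
    | true => e
    | false => w
  obtain ⟨s, hs⟩ := res_glue L U hU hc t (by
    have h' : res L (inf_le_left : V ⊓ W ≤ V) e = res L inf_le_right w := by
      have h2 := congrArg (res L (le_of_eq (inf_comm _ _) : V ⊓ W ≤ W ⊓ V)) h
      rw [res_res, res_res] at h2
      exact h2.symm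
    rintro (_ | _) (_ | _)
    · rfl
    · exact h
    · exact h'
    · rfl)
  refine ⟨s, IsGen.of_cover U hU hc ?_⟩
  rintro (_ | _)
  · have := hs false
    change IsGen (res L (hU false) s)
    rw [this]
    exact hw
  · have := hs true
    change IsGen (res L (hU true) s)
    rw [this]
    exact he

/-- Restriction of the pullback of a section. -/
noncomputable def pres (i : X₀ ⟶ X) {M : X.Modules} {U : X.Opens} {V : X₀.Opens}
    (h : V ≤ i ⁻¹ᵁ U) (m : Γ(M, U)) : Γ((Scheme.Modules.pullback i).obj M, V) :=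
  res _ h (pullSec i m)

/-- Pullback of functions. -/
noncomputable def pl (i : X₀ ⟶ X) {U : X.Opens} {V : X₀.Opens} (h : V ≤ i ⁻¹ᵁ U) :
    Γ(X, U) →+* Γ(X₀, V) := (i.appLE U V h).hom

theorem pl_eq (i : X₀ ⟶ X) {U : X.Opens} {V : X₀.Opens} (h : V ≤ i ⁻¹ᵁ U) (a : Γ(X, U)) :
    pl i h a = ores h (i.app U a) := rfl

theorem res_pres (i : X₀ ⟶ X) {M : X.Modules} {U : X.Opens} {V V' : X₀.Opens}
    (h : V ≤ i ⁻¹ᵁ U) (h' : V' ≤ V) (m : Γ(M, U)) :
    res _ h' (pres i h m) = pres i (h'.trans h) m := by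
  unfold pres
  rw [res_res]

theorem pres_res (i : X₀ ⟶ X) {M : X.Modules} {U U' : X.Opens} {V : X₀.Opens}
    (h' : U' ≤ U) (h : V ≤ i ⁻¹ᵁ U') (m : Γ(M, U)) :
    pres i h (res M h' m) = pres i (h.trans (i.preimage_mono h')) m := by
  unfold pres
  rw [← res_pullSec, res_res]

theorem pres_smul (i : X₀ ⟶ X) {M : X.Modules} {U : X.Opens} {V : X₀.Opens}
    (h : V ≤ i ⁻¹ᵁ U) (a : Γ(X, U)) (m : Γ(M, U)) :
    pres i h (a • m) = pl i h a • pres i h m := by
  unfold pres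
  rw [pullSec_smul, res_smul]
  rfl

theorem isGen_pres (i : X₀ ⟶ X) {M : X.Modules} {U : X.Opens} {V : X₀.Opens}
    (h : V ≤ i ⁻¹ᵁ U) {m : Γ(M, U)} (hm : IsGen m) : IsGen (pres i h m) :=
  (hm.pullSec i).res h

theorem res_tmul {M N : Y.Modules} {U V : Y.Opens} (h : V ≤ U) (m : Γ(M, U)) (n : Γ(N, U)) :
    res (CohB1.tensorMod M N) h (tmul m n) = tmul (res M h m) (res N h n) :=
  tmul_res (homOfLE h) m n

/-- Changing an invertible module `L` on `X₀` by the pullback of an invertible module on `X` such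
that it acquires a generator on a larger open. -/
theorem step (i : X₀ ⟶ X) {L : X₀.Modules} (hL : PicF.IsInvertible L) {W V : X₀.Opens}
    {w : Γ(L, W)} {e : Γ(L, V)} (hw : IsGen w) (he : IsGen e) (g : Γ(X₀, W ⊓ V))
    (hg : res L inf_le_right e = g • res L (inf_le_left : W ⊓ V ≤ W) w)
    (A B : X.Opens) (hAB : A ⊔ B = ⊤) (u u' : Γ(X, A ⊓ B)) (hu : u * u' = 1)
    (hWA : W ≤ i ⁻¹ᵁ A) (hVB : V ≤ i ⁻¹ᵁ B) (hWV : W ⊓ V ≤ i ⁻¹ᵁ (A ⊓ B))
    (hgu : g = pl i hWV u) :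
    ∃ (L₁ : X₀.Modules) (hL₁ : PicF.IsInvertible L₁) (c : Pic X),
      mk L hL = mk L₁ hL₁ * pull i c ∧ ∃ w₁ : Γ(L₁, W ⊔ V), IsGen w₁ := by
  obtain ⟨M, hM, a, b, ha, hb, hab⟩ := exists_glue A B hAB u' u (by rw [mul_comm]; exact hu)
  refine ⟨CohB1.tensorMod L ((Scheme.Modules.pullback i).obj M), ?_, (mk M hM)⁻¹, ?_, ?_⟩
  · exact isInvertible_tensorMod hL (isInvertible_pullback i hM)
  · rw [map_inv, eq_mul_inv_iff_mul_eq]
    rfl
  · refine glue_sections (w := tmul w (pres i hWA a)) (e := tmul e (pres i hVB b)) _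
      (isGen_tmul hw (isGen_pres i hWA ha)) (isGen_tmul he (isGen_pres i hVB hb)) ?_
    rw [res_tmul, res_tmul, res_pres, res_pres, hg]
    have h1 : pres i (show W ⊓ V ≤ i ⁻¹ᵁ B from inf_le_right.trans hVB) b =
        pl i hWV u' • pres i (show W ⊓ V ≤ i ⁻¹ᵁ A from inf_le_left.trans hWA) a := by
      rw [← pres_res i (inf_le_right : A ⊓ B ≤ B) hWV, hab, pres_smul, pres_res]
    rw [h1, smul_tmul, tmul_smul, smul_smul, hgu, ← map_mul, hu, map_one, one_smul]

end K549.PicGlue
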