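import Groth.Agent.Ega4fib.H175.JacobsonDim
import Groth.Agent.Etalg.GoldmanBasic
import Groth.Agent.CycA.ClosurePt

/-!
# The dimension of the closure of a point over the spectrum of a universally catenary local ring
-/

set_option autoImplicit false
universe u

open CategoryTheory AlgebraicGeometry TopologicalSpace Topology
open Groth.Agent Groth.Agent.CycB Groth.Agent.CycB.RelDim Groth.Agent.Ega4fib.H175.JacobsonDim

namespace K549.ClosDim

theorem isUniversallyCatenary_stalk_spec {P : Type u} [CommRing P]
    (hP : CAlg.IsUniversallyCatenary P) (y : ↥(Spec (CommRingCat.of P))) :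
    CAlg.IsUniversallyCatenary ((Spec (CommRingCat.of P)).presheaf.stalk y) := by
  let k : Algebra P ((Spec (CommRingCat.of P)).presheaf.stalk y) :=
    StructureSheaf.stalkAlgebra P y
  have hy : y.asIdeal.IsPrime := y.isPrime
  have : IsLocalization.AtPrime ((Spec (CommRingCat.of P)).presheaf.stalk y) y.asIdeal :=
    StructureSheaf.IsLocalization.to_stalk P y
  exact CalgA.UnivCat.isUniversallyCatenary_of_isLocalization y.asIdeal.primeCompl hP

/-- The closed point of the spectrum of a local ring, as a point of the scheme. -/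
abbrev cp (A : Type u) [CommRing A] [IsLocalRing A] : ↥(Spec (CommRingCat.of A)) :=
  (IsLocalRing.closedPoint A : PrimeSpectrum A)

theorem specializes_cp {A : Type u} [CommRing A] [IsLocalRing A]
    (y : ↥(Spec (CommRingCat.of A))) : y ⤳ cp A :=
  (PrimeSpectrum.le_iff_specializes (R := A) y (IsLocalRing.closedPoint A)).1
    (IsLocalRing.le_maximalIdeal y.isPrime.ne_top)

theorem isClosed_cp (A : Type u) [CommRing A] [IsLocalRing A] :
    IsClosed ({cp A} : Set ↥(Spec (CommRingCat.of A))) :=
  IsLocalRing.isClosed_singleton_closedPoint A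

theorem dim_locQuot_cp {A : Type u} [CommRing A] [IsLocalRing A]
    (y : ↥(Spec (CommRingCat.of A))) (h : y ⤳ cp A) :
    ringKrullDim (Cyc.LocQuot (cp A) y h) = ringKrullDim (A ⧸ y.asIdeal) := by
  rw [← dim_between]
  have h1 : {t : ↥(Spec (CommRingCat.of A)) | y ⤳ t ∧ t ⤳ cp A} =
      Set.range (PrimeSpectrum.comap (Ideal.Quotient.mk y.asIdeal)) := by
    rw [range_comap_of_surjective _ _ Ideal.Quotient.mk_surjective, Ideal.mk_ker]
    ext t
    constructor
    · rintro ⟨h1, -⟩
      exact (PrimeSpectrum.le_iff_specializes (R := A) y t).2 h1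
    · intro h1
      exact ⟨(PrimeSpectrum.le_iff_specializes (R := A) y t).1 h1, specializes_cp t⟩
  rw [h1, ← PrimeSpectrum.topologicalKrullDim_eq_ringKrullDim]
  have hemb := (PrimeSpectrum.isClosedEmbedding_comap_of_surjective _ _
    (Ideal.Quotient.mk_surjective (I := y.asIdeal))).isEmbedding
  exact (IsHomeomorph.topologicalKrullDim_eq _ hemb.toHomeomorph.isHomeomorph).symm

/-- The image of a closed point under a morphism of finite type to a Noetherian affine scheme:
all strict specializations of the image are closed. -/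
theorem isMaximal_of_isClosed {A : Type u} [CommRing A] [IsNoetherianRing A] {Z : Scheme.{u}}
    (p : Z ⟶ Spec (CommRingCat.of A)) [LocallyOfFiniteType p] [QuasiCompact p] {z : Z}
    (hz : IsClosed ({z} : Set Z)) (P : Ideal A) [hP : P.IsPrime] (h : (p z).asIdeal < P) :
    P.IsMaximal := by
  have hZ : IsLocallyNoetherian Z := LocallyOfFiniteType.isLocallyNoetherian p
  have hZc : CompactSpace Z := QuasiCompact.compactSpace_of_compactSpace p
  have hZN : IsNoetherian Z := {}
  have hfp : LocallyOfFinitePresentation p := by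
    exact LocallyOfFinitePresentation.iff_locallyOfFiniteType.2 inferInstance
  have hc : IsConstructible ({z} : Set Z) := by
    rw [← isConstructible_compl]
    exact (NoetherianSpace.isCompact _).isConstructible hz.isOpen_compl
  have h1 := p.isConstructible_image hc
  rw [Set.image_singleton] at h1
  obtain ⟨S, hS⟩ := (PrimeSpectrum.exists_constructibleSetData_iff (R := A)).2 h1
  have h2 : (p z : PrimeSpectrum A) ∈ S.toSet := by rw [hS]; exact rfl
  unfold PrimeSpectrum.ConstructibleSetData.toSet at h2 hS
  obtain ⟨C, hC, h3⟩ := Set.mem_iUnion₂.1 h2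
  refine Etalg.GoldmanBasic.isMaximal_of_forall_lt (p z).asIdeal (p z).isPrime C.f ?_ ?_ P hP h
  · intro h4
    exact h3.2 ((PrimeSpectrum.mem_zeroLocus _ _).2 (Set.singleton_subset_iff.2 h4))
  · intro Q hQ hlt
    by_contra h4
    have h5 : (⟨Q, hQ⟩ : PrimeSpectrum A) ∈ C.toSet := by
      refine ⟨?_, ?_⟩
      · rw [PrimeSpectrum.mem_zeroLocus]
        exact ((PrimeSpectrum.mem_zeroLocus _ _).1 h3.1).trans hlt.le
      · rw [PrimeSpectrum.mem_zeroLocus, Set.singleton_subset_iff]
        exact h4
    have h6 : (⟨Q, hQ⟩ : PrimeSpectrum A) ∈ (⋃ C ∈ S, C.toSet) :=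
      Set.mem_iUnion₂.2 ⟨C, hC, h5⟩
    rw [hS] at h6
    have h7 : (⟨Q, hQ⟩ : PrimeSpectrum A) = p z := h6
    rw [← h7] at hlt
    exact lt_irrefl _ hlt

variable {A : Type u} [CommRing A] [IsNoetherianRing A] [IsLocalRing A]

/-- The key computation for an integral scheme of finite type. -/
theorem coheight_formula (hA : CAlg.IsUniversallyCatenary A) {Z : Scheme.{u}}
    [IrreducibleSpace Z] (p : Z ⟶ Spec (CommRingCat.of A)) [LocallyOfFiniteType p] (a b : ℕ)
    (ha : ringKrullDim (A ⧸ (p (genericPoint Z)).asIdeal) = a) (hb : rtd p (genericPoint Z) = b)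
    (z : Z) :
    ∃ m n c r : ℕ, Order.coheight z = m ∧ rtd p z = r ∧
      ringKrullDim (A ⧸ (p z).asIdeal) = c ∧ n + c = a ∧ m + r = n + b := by
  have hS : IsLocallyNoetherian (Spec (CommRingCat.of A)) := inferInstance
  have hZ : IsLocallyNoetherian Z := LocallyOfFiniteType.isLocallyNoetherian p
  obtain ⟨m, n, hm, hn, e⟩ := SetupLft.dimension_formula_specializes p
    (isUniversallyCatenary_stalk_spec hA) (genericPoint_specializes z)
  obtain ⟨r, hr⟩ := Cardinal.lt_aleph0.1 (rtd_lt_aleph0 p z)
  have e' : (m : Cardinal.{u}) + rtd p z = (n : Cardinal.{u}) + rtd p (genericPoint Z) := e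
  obtain ⟨n', hn'⟩ := exists_dim_locQuot
    ((genericPoint_specializes z).map p.continuous)
  obtain ⟨m', hm'⟩ := exists_dim_locQuot (genericPoint_specializes z)
  obtain ⟨c, hc⟩ := exists_dim_locQuot (specializes_cp (p z))
  have hadd := dim_locQuot_add (isUniversallyCatenary_stalk_spec hA)
    ((genericPoint_specializes z).map p.continuous) (specializes_cp (p z))
  rw [dim_locQuot_cp, ha, hn', hc] at hadd
  rw [hn'] at hn
  rw [hm'] at hm
  have hn2 : n = (n' : ℕ∞) := by exact_mod_cast hn
  have hm2 : m = (m' : ℕ∞) := by exact_mod_cast hm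
  subst hn2 hm2
  rw [coheight_eq_dim_locQuot] at hm'
  rw [dim_locQuot_cp] at hc
  refine ⟨m', n', c, r, by exact_mod_cast hm', hr, hc, ?_, ?_⟩
  · have : ((a : ℕ) : WithBot ℕ∞) = ((n' + c : ℕ) : WithBot ℕ∞) := by
      rw [hadd]; push_cast; rfl
    exact (by exact_mod_cast this : a = n' + c).symm
  · rw [hr, hb] at e'
    simp only [Cardinal.ofENat_nat] at e'
    exact_mod_cast e'

theorem main (hA : CAlg.IsUniversallyCatenary A) {Z : Scheme.{u}}
    [IrreducibleSpace Z] (p : Z ⟶ Spec (CommRingCat.of A)) [LocallyOfFiniteType p]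
    [QuasiCompact p] (a b : ℕ)
    (ha : ringKrullDim (A ⧸ (p (genericPoint Z)).asIdeal) = a)
    (hb : rtd p (genericPoint Z) = b) :
    ((∃ z : Z, p z = cp A) → topologicalKrullDim Z = ((a + b : ℕ) : WithBot ℕ∞)) ∧
    ((∀ z : Z, p z ≠ cp A) → ∃ d : ℕ, topologicalKrullDim Z = d ∧ d + 1 = a + b) := by
  have hZc : CompactSpace Z := QuasiCompact.compactSpace_of_compactSpace p
  rw [Localalg.GrpDim.topologicalKrullDim_eq, Order.krullDim_eq_iSup_coheight]
  constructor
  · rintro ⟨z₀, hz₀⟩
    apply le_antisymm
    · apply iSup_le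
      intro z
      obtain ⟨m, n, c, r, hm, -, -, h1, h2⟩ := coheight_formula hA p a b ha hb z
      rw [hm]
      have : m ≤ a + b := by omega
      exact_mod_cast this
    · have hcl : IsClosed (p ⁻¹' {cp A}) := (isClosed_cp A).preimage p.continuous
      obtain ⟨z, hz, hzc⟩ : ∃ z ∈ p ⁻¹' {cp A}, IsClosed ({z} : Set Z) :=
        hcl.exists_closed_singleton ⟨z₀, hz₀⟩
      obtain ⟨m, n, c, r, hm, hr, hc, h1, h2⟩ := coheight_formula hA p a b ha hb z
      have hr0 : r = 0 := by
        rw [rtd_eq_zero_of_isClosed p hzc] at hr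
        exact_mod_cast hr.symm
      have hc0 : c = 0 := by
        have h3 : (p z).asIdeal = IsLocalRing.maximalIdeal A := by
          rw [show p z = cp A from hz]; rfl
        rw [h3] at hc
        have h4 : ringKrullDim (A ⧸ IsLocalRing.maximalIdeal A) = 0 := by
          let := Ideal.Quotient.field (IsLocalRing.maximalIdeal A)
          exact ringKrullDim_eq_zero_of_field _
        rw [h4] at hc
        exact_mod_cast hc.symm
      have : m = a + b := by omega
      rw [← this]
      refine le_trans ?_ (le_iSup _ z)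
      rw [hm]
      rfl
  · intro hne
    obtain ⟨z, -, hzc⟩ : ∃ z ∈ (Set.univ : Set Z), IsClosed ({z} : Set Z) :=
      isClosed_univ.exists_closed_singleton ⟨genericPoint Z, trivial⟩
    have hpos : ∀ z : Z, ∀ c : ℕ, ringKrullDim (A ⧸ (p z).asIdeal) = c → 1 ≤ c := by
      intro z c hc
      by_contra h0
      have hc0 : c = 0 := by omega
      rw [hc0] at hc
      apply hne z
      have h1 : (p z).asIdeal.IsMaximal := by
        have h2 : Ring.KrullDimLE 0 (A ⧸ (p z).asIdeal) := by
          rw [Ring.krullDimLE_iff, hc]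
        have : (p z).asIdeal.IsPrime := (p z).isPrime
        exact Ideal.Quotient.maximal_of_isField _ (Ring.KrullDimLE.isField_of_isDomain)
      exact PrimeSpectrum.ext (IsLocalRing.eq_maximalIdeal h1)
    obtain ⟨m, n, c, r, hm, hr, hc, h1, h2⟩ := coheight_formula hA p a b ha hb z
    have hr0 : r = 0 := by
      rw [rtd_eq_zero_of_isClosed p hzc] at hr
      exact_mod_cast hr.symm
    have hc1 : 1 ≤ c := hpos z c hc
    have hc2 : c ≤ 1 := by
      have h3 : Ring.KrullDimLE 1 (A ⧸ (p z).asIdeal) := by
        have : (p z).asIdeal.IsPrime := (p z).isPrime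
        have : Ring.DimensionLEOne (A ⧸ (p z).asIdeal) := by
          constructor
          intro P hP0 hP
          have h5 : (p z).asIdeal ≤ P.comap (Ideal.Quotient.mk (p z).asIdeal) := by
            intro x hx
            rw [Ideal.mem_comap, Ideal.Quotient.eq_zero_iff_mem.2 hx]
            exact zero_mem _
          have h6 : (p z).asIdeal < P.comap (Ideal.Quotient.mk (p z).asIdeal) := by
            refine lt_of_le_of_ne h5 fun e6 => hP0 ?_
            rw [eq_bot_iff]
            intro x hx
            obtain ⟨x, rfl⟩ := Ideal.Quotient.mk_surjective x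
            have h7 : x ∈ P.comap (Ideal.Quotient.mk (p z).asIdeal) := hx
            rw [← e6] at h7
            rw [Ideal.Quotient.eq_zero_iff_mem.2 h7]
            exact zero_mem _
          have h8 : (P.comap (Ideal.Quotient.mk (p z).asIdeal)).IsPrime := hP.comap _
          have h9 := isMaximal_of_isClosed p hzc _ h6
          rcases Ideal.map_eq_top_or_isMaximal_of_surjective (Ideal.Quotient.mk (p z).asIdeal)
            Ideal.Quotient.mk_surjective h9 with h10 | h10
          · rw [Ideal.map_comap_of_surjective _ Ideal.Quotient.mk_surjective] at h10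
            exact absurd h10 hP.ne_top
          · rwa [Ideal.map_comap_of_surjective _ Ideal.Quotient.mk_surjective] at h10
        infer_instance
      rw [Ring.krullDimLE_iff, hc] at h3
      exact_mod_cast h3
    refine ⟨m, le_antisymm ?_ ?_, by omega⟩
    · apply iSup_le
      intro z'
      obtain ⟨m', n', c', r', hm', hr', hc', h1', h2'⟩ := coheight_formula hA p a b ha hb z'
      have := hpos z' c' hc'
      rw [hm']
      have : m' ≤ m := by omega
      exact_mod_cast this
    · refine le_trans ?_ (le_iSup _ z)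
      rw [hm]
      rfl

end K549.ClosDim
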