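import Groth.Agent.S0134
import Groth.Agent.S0141
import Groth.Agent.Etbase.EtColimBig
import Groth.Agent.EtpbcA.TorsionColim
import Groth.Agent.CurvesA.CohBasic
import Mathlib.AlgebraicGeometry.Noetherian

/-!
# Vanishing of cohomology: reduction to constructible subsheaves

`van_of_constructible_sub`: on a Noetherian scheme, `H^n(X, F) = 0` for a torsion sheaf `F` as soon as
`H^n(X, I) = 0` for every constructible subsheaf `I` of `F`.
-/

set_option autoImplicit false
universe u

open CategoryTheory CategoryTheory.Limits AlgebraicGeometry Opposite TopologicalSpace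

namespace K549.ConsRed

open Groth.Agent Groth.Agent.CurvesA

variable {X : Scheme.{u}}

/-- A class coming from a sheaf without cohomology vanishes. -/
theorem map_eq_zero {F G : EtCoh.Ab X} (n : ℕ) (h : Subsingleton (EtCoh.H X G n))
    (a : G ⟶ F) (y : ((EtCoh.HF X n).obj G : Type (u + 1))) : (EtCoh.HF X n).map a y = 0 := by
  have h' : Subsingleton ((EtCoh.HF X n).obj G : Type (u + 1)) := h
  rw [h'.elim y 0, map_zero]

theorem van_of_constructible_sub [IsNoetherian X] (F : EtCoh.Ab X) (hF : EtCoh.IsTorsion F) (n : ℕ)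
    (h : ∀ (I : EtCoh.Ab X) (i : I ⟶ F) [Mono i], EtPBC.IsConstructible I →
      Subsingleton (EtCoh.H X I n)) : Subsingleton (EtCoh.H X F n) := by
  obtain ⟨J, _, _, D, c, hc, hD, ⟨e⟩⟩ := S0134.result X F hF
  have hcol := Etbase.EtColimBig.preservesColimits_HF_big X J n
  have key : ∀ y : ((EtCoh.HF X n).obj c.pt : Type (u + 1)), y = 0 := by
    intro y
    obtain ⟨j, z, hz⟩ := Concrete.isColimit_exists_rep (D ⋙ EtCoh.HF X n)
      (isColimitOfPreserves (EtCoh.HF X n) hc) y
    let a : D.obj j ⟶ c.pt := c.ι.app j
    obtain ⟨N, hN, hk⟩ := EtpbcA.KilledBy.exists_killedBy_of_isConstructible (hD j)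
    have hI : EtPBC.IsConstructible (Abelian.image a) :=
      S0141.result X (Abelian.factorThruImage a) N hN hk (hD j)
    have hv := h (Abelian.image a) (Abelian.image.ι a ≫ e.hom) hI
    have h1 : (EtCoh.HF X n).map a z = 0 := by
      have h2 : a = Abelian.factorThruImage a ≫ Abelian.image.ι a := (Abelian.image.fac a).symm
      rw [h2, Functor.map_comp]
      exact map_eq_zero n hv (Abelian.image.ι a) _
    rw [← hz]
    exact h1
  refine CohBasic.van_of_iso e n (subsingleton_of_forall_eq 0 key)

end K549.ConsRed
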