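import Groth.Agent.EtCd.K549.PtExt

/-!
# Sheaves on schemes with finitely many points, all closed

`of_points`: a property of sheaves on such a scheme, stable under retracts and extensions, holds for `F` if it
holds for the `j_{t*} j_t⁻¹ F`.
-/

set_option autoImplicit false
universe u

open CategoryTheory CategoryTheory.Limits AlgebraicGeometry Opposite TopologicalSpace

namespace K549.PtDecomp

open Groth.Agent Groth.Agent.CurvesA Groth.Agent.EtpbcA Groth.Agent.EtpbcA.Artin
  Groth.Agent.Etbc.H209 Groth.Agent.Etbc.H209.PrimFilt Groth.Agent.Etbc.H211 Groth.Agent.Sga4h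

variable {T : Scheme.{u}}

theorem isZero_pull_of_not_mem (C : EtCoh.Ab T) (s : T) (h : s ∉ EtPBC.supp C) :
    IsZero ((EtCoh.pull (T.fromSpecResidueField s)).obj C) := by
  rw [Etcore.Stalks.isZero_iff_stalks]
  intro Ω _ _ ξ
  have hx : Set.range (ξ ≫ T.fromSpecResidueField s) = {s} := by
    ext y
    rw [Set.mem_singleton_iff]
    constructor
    · rintro ⟨z, rfl⟩
      rw [Scheme.Hom.comp_apply]
      exact T.fromSpecResidueField_apply s _
    · rintro rfl
      refine ⟨default, ?_⟩
      rw [Scheme.Hom.comp_apply]
      exact T.fromSpecResidueField_apply y _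
  rw [mem_supp_iff _ s (ξ ≫ T.fromSpecResidueField s) hx, not_not] at h
  exact h.of_iso ((Etbase.StalkPull.stalkPullIso (T.fromSpecResidueField s) ξ).app C).symm

theorem of_points_finset (hcl : ∀ t : T, IsClosed ({t} : Set T)) {Q : EtCoh.Ab T → Prop}
    (h : PrimeDev219.Cl Q) (hz : ∀ F, IsZero F → Q F) (S : Finset T) : ∀ (F : EtCoh.Ab T),
    (∀ t ∈ EtPBC.supp F, t ∈ S) →
    (∀ t ∈ S, Q ((EtCoh.push (T.fromSpecResidueField t)).obj
      ((EtCoh.pull (T.fromSpecResidueField t)).obj F))) → Q F := by
  classical
  induction S using Finset.induction_on with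
  | empty =>
    intro F hs _
    exact hz F (isZero_of_forall F fun z hz' => Finset.notMem_empty z (hs z hz'))
  | insert z S hzS ih =>
    intro F hs hb
    have hci : IsClosedImmersion (T.fromSpecResidueField z) :=
      isClosed_singleton_iff_isClosedImmersion.1 (hcl z)
    let i := T.fromSpecResidueField z
    let u := (EtCoh.pullPushAdj i).unit.app F
    have hzr : Set.range i = {z} := T.range_fromSpecResidueField z
    have hzm : z ∈ Set.range i := by
      rw [hzr]
      rfl
    have hsup : EtPBC.supp ((EtCoh.push i).obj ((EtCoh.pull i).obj F)) ⊆ {z} := by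
      rw [← hzr]
      exact SuppClosed.supp_push i _
    have hepi : Epi u := by
      refine Preadditive.epi_of_isZero_cokernel _ (isZero_of_forall _ fun y hy => ?_)
      have h2 := hsup (SuppClosed.supp_of_epi (cokernel.π u) hy)
      have h3 : y = z := h2
      subst h3
      exact UnitPt.not_mem_supp_cokernel i F hzm hy
    let S' : ShortComplex (EtCoh.Ab T) := ShortComplex.mk (kernel.ι u) u (kernel.condition u)
    have hS' : S'.ShortExact := ShortComplex.ShortExact.mk'
      (ShortComplex.exact_of_f_is_kernel _ (kernelIsKernel u))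
      (inferInstanceAs (Mono (kernel.ι u))) hepi
    refine h.ext hS' ?_ (hb z (Finset.mem_insert_self z S))
    have hsub : EtPBC.supp (kernel u) ⊆ EtPBC.supp F := SuppCons.supp_subset_of_mono (kernel.ι u)
    refine ih (kernel u) (fun y hy => ?_) (fun s hs' => ?_)
    · have h2 := hs y (hsub hy)
      rw [Finset.mem_insert] at h2
      refine h2.resolve_left fun h3 => ?_
      subst h3
      exact UnitPt.not_mem_supp_kernel i F hzm hy
    · have hne : s ≠ z := fun e => hzS (e ▸ hs')
      have h0 : IsZero ((EtCoh.pull (T.fromSpecResidueField s)).obj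
          ((EtCoh.push i).obj ((EtCoh.pull i).obj F))) :=
        isZero_pull_of_not_mem _ s fun h4 => hne (hsup h4)
      have hex := hS'.map_of_exact (EtCoh.pull (T.fromSpecResidueField s))
      have hiso : IsIso (S'.map (EtCoh.pull (T.fromSpecResidueField s))).f := by
        have hm := hex.mono_f
        have he : Epi (S'.map (EtCoh.pull (T.fromSpecResidueField s))).f :=
          hex.exact.epi_f (h0.eq_of_tgt _ _)
        exact isIso_of_mono_of_epi _
      let e : (EtCoh.pull (T.fromSpecResidueField s)).obj (kernel u) ≅
          (EtCoh.pull (T.fromSpecResidueField s)).obj F :=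
        @asIso _ _ _ _ (S'.map (EtCoh.pull (T.fromSpecResidueField s))).f hiso
      exact h.of_iso ((EtCoh.push (T.fromSpecResidueField s)).mapIso e)
        (hb s (Finset.mem_insert_of_mem hs'))

theorem of_points [Finite T] (hcl : ∀ t : T, IsClosed ({t} : Set T)) {Q : EtCoh.Ab T → Prop}
    (h : PrimeDev219.Cl Q) (hz : ∀ F, IsZero F → Q F) (F : EtCoh.Ab T)
    (hb : ∀ t : T, Q ((EtCoh.push (T.fromSpecResidueField t)).obj
      ((EtCoh.pull (T.fromSpecResidueField t)).obj F))) : Q F := by
  have := Fintype.ofFinite T
  exact of_points_finset hcl h hz Finset.univ F (fun t _ => Finset.mem_univ t) fun t _ => hb t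

end K549.PtDecomp
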