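import Groth.Agent.EtCd.K549.Model
import Groth.Agent.EtCd.K549.PtDecomp
import Groth.Agent.EtCd.K549.ConsRed
import Groth.Agent.Sga2lef.H97.FieldCons
import Groth.Agent.S0127
import Groth.Agent.S0140
import Groth.Agent.S0071
import Groth.Prelude.Def_EtCore
import Groth.Prelude.Def_EtAcyc

/-!
# Vanishing of cohomology from a dimension function on integral finite schemes
-/

set_option autoImplicit false
universe u

open CategoryTheory CategoryTheory.Limits AlgebraicGeometry Opposite TopologicalSpace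

namespace K549.DimFun

open Groth.Agent Groth.Agent.CurvesA Groth.Agent.EtpbcA Groth.Agent.EtpbcA.Artin
  Groth.Agent.Etbc.H209 Groth.Agent.Etbc.H209.PrimFilt Groth.Agent.Etbc.H211 Groth.Agent.Sga4h
  Groth.Agent.CurvesA.SubSheafEt Groth.Agent.CurvesA.Punctual Groth.Agent.EtpbcA.SuppFilt

section basic

variable {X Y : Scheme.{u}}

/-- If `H^n(F) = 0`, `H^{n+1}(ker u) = 0` and `H^n(coker u) = 0` then `H^n(G) = 0`. -/
theorem van_target {F G : EtCoh.Ab X} (u : F ⟶ G) (n : ℕ)
    (hK : Subsingleton (EtCoh.H X (kernel u) (n + 1))) (hF : Subsingleton (EtCoh.H X F n))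
    (hC : Subsingleton (EtCoh.H X (cokernel u) n)) : Subsingleton (EtCoh.H X G n) := by
  let S₂ : ShortComplex (EtCoh.Ab X) := ShortComplex.mk (Abelian.image.ι u) (cokernel.π u)
    (kernel.condition _)
  have hS₂ : S₂.ShortExact := ShortComplex.ShortExact.mk'
    (ShortComplex.exact_of_f_is_kernel _ (kernelIsKernel _))
    (inferInstanceAs (Mono (Abelian.image.ι u))) (inferInstanceAs (Epi (cokernel.π u)))
  have w : kernel.ι u ≫ Abelian.factorThruImage u = 0 := by
    rw [← cancel_mono (Abelian.image.ι u), Category.assoc, Abelian.image.fac, kernel.condition,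
      zero_comp]
  let S₁ : ShortComplex (EtCoh.Ab X) := ShortComplex.mk (kernel.ι u) (Abelian.factorThruImage u) w
  have hS₁ : S₁.ShortExact := by
    refine ShortComplex.ShortExact.mk' ?_ (inferInstanceAs (Mono (kernel.ι u)))
      (inferInstanceAs (Epi (Abelian.factorThruImage u)))
    refine ShortComplex.exact_of_f_is_kernel _ ?_
    exact KernelFork.IsLimit.ofι' _ w (fun k hk => by
      refine ⟨kernel.lift u k ?_, kernel.lift_ι _ _ _⟩
      rw [← Abelian.image.fac u, ← Category.assoc, hk, zero_comp])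
  have hI : Subsingleton (EtCoh.H X (Abelian.image u) n) := CohBasic.van_right hS₁ n hK hF
  exact CohBasic.van_mid hS₂ n hI hC

theorem H_push_finite (f : X ⟶ Y) [IsFinite f] (F : EtCoh.Ab X) (n : ℕ) (hn : 0 < n)
    (h : Subsingleton (EtCoh.H X F n)) : Subsingleton (EtCoh.H Y ((EtCoh.push f).obj F) n) := by
  obtain ⟨m, rfl⟩ : ∃ m, n = m + 1 := ⟨n - 1, by omega⟩
  exact CdEtLeray.H_push_subsingleton_of_reverse f F m h fun p q _ =>
    CdEtLeray.H_subsingleton_of_isZero (S0071.result f F (q + 1) (by omega)) p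

theorem killedBy_pow {ℓ : ℕ} (hℓ : ℓ.Prime) {F : EtCoh.Ab X} (hF : _root_.Dix.IsPrimaryTorsion ℓ F)
    {N : ℕ} (hN : 0 < N) (hk : EtCoh.KilledBy N F) : EtCoh.KilledBy (ℓ ^ N) F := by
  intro U s
  refine Groth.Agent.Etbase.EtSite.sect_ext F U _ _ fun x => ?_
  obtain ⟨V, g, ⟨v, hv⟩, k, hk'⟩ := hF U s x
  refine ⟨V, g, v, hv, ?_⟩
  obtain ⟨i, -, hi⟩ := (Nat.dvd_prime_pow hℓ).1 (Nat.gcd_dvd_right N (ℓ ^ k))
  have h1 : ℓ ^ i ≤ N := by
    rw [← hi]
    exact Nat.gcd_le_left _ hN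
  have h2 : i ≤ N := (Nat.lt_pow_self hℓ.one_lt).le.trans h1
  let t : EtCoh.sect F V := F.obj.map g.op s
  have h3 : (Nat.gcd N (ℓ ^ k)) • t = 0 := by
    have h4 : ((Nat.gcd N (ℓ ^ k) : ℕ) : ℤ) • t = 0 := by
      rw [Nat.gcd_eq_gcd_ab, add_smul, mul_comm, mul_comm ((ℓ ^ k : ℕ) : ℤ), mul_smul, mul_smul,
        natCast_zsmul, natCast_zsmul, hk V t]
      have h5 : (ℓ ^ k) • t = 0 := hk'
      rw [h5, smul_zero, smul_zero, add_zero]
    rwa [natCast_zsmul] at h4
  rw [hi] at h3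
  change F.obj.map g.op ((ℓ ^ N) • s) = F.obj.map g.op 0
  rw [map_nsmul, map_zero]
  change (ℓ ^ N) • t = 0
  rw [← Nat.sub_add_cancel h2, pow_add, mul_nsmul', h3, nsmul_zero]

end basic

/-- The integral closed subscheme on the closure of a point. -/
noncomputable def sub' {Y : Scheme.{u}} (y : Y) : Scheme.{u} :=
  (CycA.ClosurePt.exists_closure_subscheme y).choose

/-- Its inclusion. -/
noncomputable def subι' {Y : Scheme.{u}} (y : Y) : sub' y ⟶ Y :=
  (CycA.ClosurePt.exists_closure_subscheme y).choose_spec.choose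

instance {Y : Scheme.{u}} (y : Y) : IsClosedImmersion (subι' y) :=
  (CycA.ClosurePt.exists_closure_subscheme y).choose_spec.choose_spec.choose

instance {Y : Scheme.{u}} (y : Y) : IsIntegral (sub' y) :=
  (CycA.ClosurePt.exists_closure_subscheme y).choose_spec.choose_spec.choose_spec.choose

theorem subι'_generic {Y : Scheme.{u}} (y : Y) : subι' y (genericPoint (sub' y)) = y :=
  (CycA.ClosurePt.exists_closure_subscheme y).choose_spec.choose_spec.choose_spec.choose_spec.1

theorem range_subι' {Y : Scheme.{u}} (y : Y) : Set.range (subι' y) = closure {y} :=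
  (CycA.ClosurePt.exists_closure_subscheme y).choose_spec.choose_spec.choose_spec.choose_spec.2

section phi

variable {X : Scheme.{u}} (φ : ∀ (Y : Scheme.{u}), (Y ⟶ X) → ℕ)

/-- The hypothesis on the dimension function. -/
def Mon : Prop :=
  ∀ (Y₁ Y₂ : Scheme.{u}) (g₁ : Y₁ ⟶ X) (g₂ : Y₂ ⟶ X) [IsIntegral Y₁] [IsIntegral Y₂] [IsFinite g₁]
    [IsFinite g₂] (m : Y₁ ⟶ Y₂), m ≫ g₂ = g₁ →
      φ Y₁ g₁ ≤ φ Y₂ g₂ ∧ (IsClosedImmersion m → ¬ IsIso m → φ Y₁ g₁ < φ Y₂ g₂)

/-- The value of `φ` at a point. -/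
noncomputable def dimf {Y : Scheme.{u}} (g : Y ⟶ X) (y : Y) : ℕ := φ (sub' y) (subι' y ≫ g)

variable {φ} (hφ : Mon φ)

include hφ

theorem dimf_lt {Y : Scheme.{u}} (g : Y ⟶ X) [IsFinite g] (y z : Y) (h : y ⤳ z) (hne : y ≠ z) :
    dimf φ g z < dimf φ g y := by
  obtain ⟨m, hm⟩ := Sga4h.H923.DevGeo.exists_lift (subι' y) (subι' z) (by
    rw [subι'_generic, range_subι', ← specializes_iff_mem_closure]
    exact h)
  have hmc : IsClosedImmersion m := by
    have : IsClosedImmersion (m ≫ subι' y) := by rw [hm]; infer_instance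
    exact IsClosedImmersion.of_comp m (subι' y)
  refine (hφ _ _ (subι' z ≫ g) (subι' y ≫ g) m (by rw [← Category.assoc, hm])).2 hmc fun hi => ?_
  have h1 : closure {z} = closure {y} := by
    rw [← range_subι', ← range_subι', ← hm, Scheme.Hom.comp_base, TopCat.coe_comp, Set.range_comp,
      m.surjective.range_eq, Set.image_univ]
  have h2 : z ⤳ y := by
    rw [specializes_iff_mem_closure, h1]
    exact subset_closure rfl
  exact hne (h.antisymm h2).eq

theorem le_dimf {Y Y' : Scheme.{u}} (g : Y ⟶ X) [IsFinite g] [IsIntegral Y'] (π : Y' ⟶ Y)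
    [IsFinite π] (y : Y) (hy : π (genericPoint Y') = y) : φ Y' (π ≫ g) ≤ dimf φ g y := by
  obtain ⟨m, hm⟩ := Sga4h.H923.DevGeo.exists_lift (subι' y) π (by
    rw [hy, range_subι']
    exact subset_closure rfl)
  exact (hφ _ _ (π ≫ g) (subι' y ≫ g) m (by rw [← Category.assoc, hm])).1

theorem dimf_le {Y' : Scheme.{u}} [IsIntegral Y'] (g' : Y' ⟶ X) [IsFinite g'] (y : Y') :
    dimf φ g' y ≤ φ Y' g' :=
  (hφ _ _ (subι' y ≫ g') g' (subι' y) rfl).1

end phi

end K549.DimFun
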