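import Groth.Agent.EtCd.K549.DimFun

/-!
# Vanishing of cohomology from a dimension function on integral finite schemes: the induction
-/

set_option autoImplicit false
universe u

open CategoryTheory CategoryTheory.Limits AlgebraicGeometry Opposite TopologicalSpace

namespace K549.DimInd

open Groth.Agent Groth.Agent.CurvesA Groth.Agent.EtpbcA Groth.Agent.EtpbcA.Artin
  Groth.Agent.Etbc.H209 Groth.Agent.Etbc.H209.PrimFilt Groth.Agent.Etbc.H211 Groth.Agent.Sga4h
  Groth.Agent.CurvesA.SubSheafEt Groth.Agent.CurvesA.Punctual Groth.Agent.EtpbcA.SuppFilt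
  K549.DimFun

variable {X : Scheme.{u}} (φ : ∀ (Y : Scheme.{u}), (Y ⟶ X) → ℕ) (ℓ : ℕ)

/-- The vanishing statement in dimension `< m`. -/
def Van (m : ℕ) : Prop :=
  ∀ (Y : Scheme.{u}) (g : Y ⟶ X) [IsFinite g] (F : EtCoh.Ab Y), _root_.Dix.IsPrimaryTorsion ℓ F →
    (∀ y ∈ EtPBC.supp F, dimf φ g y < m) → ∀ n, m ≤ n → Subsingleton (EtCoh.H Y F n)

/-- The hypothesis on constant sheaves. -/
def ConstVan : Prop :=
  ∀ (Y : Scheme.{u}) (g : Y ⟶ X) [IsIntegral Y] [IsFinite g] (q : ℕ), φ Y g < q →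
    Subsingleton (EtCoh.H Y (EtCoh.const Y (ZMod ℓ)) q)

theorem isNoetherian_of_finite [IsNoetherian X] {Y : Scheme.{u}} (g : Y ⟶ X) [IsFinite g] :
    IsNoetherian Y := by
  have h1 : IsLocallyNoetherian Y := LocallyOfFiniteType.isLocallyNoetherian g
  have h2 : CompactSpace Y := QuasiCompact.compactSpace_of_compactSpace g
  exact {}

variable {φ ℓ} (hφ : Mon φ) (hc : ConstVan φ ℓ)

include hφ hc

/-- Vanishing for constant sheaves on finite extensions of residue fields. -/
theorem van_model [IsNoetherian X] {Y : Scheme.{u}} (g : Y ⟶ X) [IsFinite g] (m : ℕ)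
    (hV : Van φ ℓ m) (y : Y) (hy : dimf φ g y ≤ m) (L : Type u) [Field L]
    (ψ : Y.residueField y ⟶ CommRingCat.of L) (hψ : ψ.hom.Finite) (n : ℕ) (hn : m + 1 ≤ n) :
    Subsingleton (EtCoh.H Y ((EtCoh.push (Spec.map ψ ≫ Y.fromSpecResidueField y)).obj
      (EtCoh.const (Spec (CommRingCat.of L)) (ZMod ℓ))) n) := by
  have := isNoetherian_of_finite g
  obtain ⟨Y', π, hπ, hY', σ, hσ, hσr, hσπ⟩ := Model.exists_model y L ψ hψ
  have := isNoetherian_of_finite π
  let F' := EtCoh.const Y' (ZMod ℓ)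
  have hF' : _root_.Dix.IsPrimaryTorsion ℓ F' :=
    PrimOps.isPrimaryTorsion_const (ZMod ℓ) 1 fun z => by
      rw [pow_one, nsmul_eq_mul, CharP.cast_eq_zero, zero_mul]
  let u := (EtCoh.pullPushAdj σ).unit.app F'
  have hmem : ∀ y' : Y', y' = genericPoint Y' → y' ∈ Set.range σ := fun y' h => by
    rw [hσr, h]
    rfl
  have hgen : π (genericPoint Y') = y := by
    obtain ⟨s, hs⟩ : genericPoint Y' ∈ Set.range σ := hmem _ rfl
    rw [← hs, ← Scheme.Hom.comp_apply, hσπ, Scheme.Hom.comp_apply]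
    exact Y.fromSpecResidueField_apply y _
  have hlt : ∀ y' : Y', y' ≠ genericPoint Y' → dimf φ (π ≫ g) y' < m := fun y' h => by
    have h1 := dimf_lt hφ (π ≫ g) (genericPoint Y') y' (genericPoint_specializes y')
      (fun e => h e.symm)
    have h2 := dimf_le hφ (π ≫ g) (genericPoint Y')
    have h3 := le_dimf hφ g π y hgen
    omega
  have hpull : _root_.Dix.IsPrimaryTorsion ℓ ((EtCoh.push σ).obj ((EtCoh.pull σ).obj F')) :=
    PrimTors.isPrimaryTorsion_push ℓ σ _ (PrimTors.isPrimaryTorsion_pull ℓ σ F' hF')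
  have h1 : Subsingleton (EtCoh.H Y' ((EtCoh.push σ).obj ((EtCoh.pull σ).obj F')) n) := by
    refine van_target u n ?_ (hc Y' (π ≫ g) n ?_) ?_
    · refine hV Y' (π ≫ g) _ (isPrimaryTorsion_of_mono (kernel.ι u) hF') (fun y' h' => ?_) (n + 1)
        (by omega)
      exact hlt y' fun h => UnitPt.not_mem_supp_kernel σ F' (hmem y' h) h'
    · have := le_dimf hφ g π y hgen
      omega
    · refine hV Y' (π ≫ g) _ (isPrimaryTorsion_of_epi (cokernel.π u) hpull) (fun y' h' => ?_) n
        (by omega)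
      exact hlt y' fun h => UnitPt.not_mem_supp_cokernel σ F' (hmem y' h) h'
  have h2 : Subsingleton (EtCoh.H Y' ((EtCoh.push σ).obj
      (EtCoh.const (Spec (CommRingCat.of L)) (ZMod ℓ))) n) :=
    CohBasic.van_of_iso ((EtCoh.push σ).mapIso (EtCore.pullConst σ (ZMod ℓ))) n h1
  have h3 := H_push_finite π _ n (by omega) h2
  refine CohBasic.van_of_iso ((EtCoh.pushComp π σ).app _ ≪≫ (EtCoh.pushCongr hσπ).app _) n h3

/-- The vanishing hypothesis gives the hypothesis of `PtExt.cl`. -/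
theorem hyp {Y : Scheme.{u}} (g : Y ⟶ X) [IsFinite g] (m : ℕ)
    (hV : Van φ ℓ m) (y : Y) (hy : dimf φ g y ≤ m) (C : EtCoh.Ab Y)
    (hC : _root_.Dix.IsPrimaryTorsion ℓ C) (hs : ∀ z ∈ EtPBC.supp C, y ⤳ z ∧ y ≠ z) (n : ℕ)
    (hn : m ≤ n) : Subsingleton (EtCoh.H Y C n) := by
  refine hV Y g C hC (fun z hz => ?_) n hn
  obtain ⟨h1, h2⟩ := hs z hz
  exact (dimf_lt hφ g y z h1 h2).trans_le hy

theorem hb [IsNoetherian X] {Y : Scheme.{u}} (g : Y ⟶ X) [IsFinite g] (m : ℕ)
    (hV : Van φ ℓ m) (y : Y) (hy : dimf φ g y ≤ m) {T : Scheme.{u}}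
    (ρ : T ⟶ Spec (Y.residueField y)) [IsFinite ρ] :
    PtExt.P y ℓ m ((EtCoh.push ρ).obj (EtCoh.const T (ZMod ℓ))) := by
  have := isNoetherian_of_finite g
  have hcl : PrimeDev219.Cl (PtExt.P y ℓ m) := PtExt.cl y ℓ m (hyp hφ hc g m hV y hy)
  have hz : ∀ F : EtCoh.Ab (Spec (Y.residueField y)), IsZero F → PtExt.P y ℓ m F := fun F hF =>
    ⟨PrimOps.isPrimaryTorsion_of_isZero hF, fun n _ =>
      CdEtLeray.H_subsingleton_of_isZero ((EtCoh.push _).map_isZero hF) n⟩
  have hall : ∀ t : T, ρ t = default := fun t => Subsingleton.elim _ _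
  have hpre : ρ ⁻¹' {default} = Set.univ := Set.eq_univ_of_forall fun t => hall t
  have hfin : Finite T := by
    have h1 := ρ.finite_preimage_singleton default
    rw [hpre] at h1
    exact Set.finite_univ_iff.1 h1
  have hdisc : DiscreteTopology T := by
    have h1 := locallyQuasiFinite_iff_isDiscrete_preimage_singleton.1
      (inferInstance : LocallyQuasiFinite ρ) default
    rw [hpre] at h1
    exact (isDiscrete_univ_iff).1 h1
  refine PtDecomp.of_points (T := T) (fun t => isClosed_discrete _)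
    (Q := fun F : EtCoh.Ab T => PtExt.P y ℓ m ((EtCoh.push ρ).obj F)) (hcl.push ρ)
    (fun F hF => hz _ ((EtCoh.push ρ).map_isZero hF)) _ fun t => ?_
  have hci : IsClosedImmersion (T.fromSpecResidueField t) :=
    isClosed_singleton_iff_isClosedImmersion.1 (isClosed_discrete _)
  obtain ⟨ψ, hψ⟩ : ∃ ψ : Y.residueField y ⟶ CommRingCat.of (T.residueField t),
      Spec.map ψ = T.fromSpecResidueField t ≫ ρ := ⟨Spec.preimage _, Spec.map_preimage _⟩
  have hψf : ψ.hom.Finite := by
    rw [← IsFinite.SpecMap_iff, hψ]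
    infer_instance
  have hprim : _root_.Dix.IsPrimaryTorsion ℓ (EtCoh.const T (ZMod ℓ)) :=
    PrimOps.isPrimaryTorsion_const (ZMod ℓ) 1 fun z => by
      rw [pow_one, nsmul_eq_mul, CharP.cast_eq_zero, zero_mul]
  refine ⟨PrimTors.isPrimaryTorsion_push ℓ ρ _ (PrimTors.isPrimaryTorsion_push ℓ _ _
    (PrimTors.isPrimaryTorsion_pull ℓ _ _ hprim)), fun n hn => ?_⟩
  have h1 := van_model hφ hc g m hV y hy (T.residueField t) ψ hψf n hn
  let i := Y.fromSpecResidueField y
  let j := T.fromSpecResidueField t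
  let c := EtCoh.const (Spec (T.residueField t)) (ZMod ℓ)
  let e1 : (EtCoh.push (Spec.map ψ ≫ i)).obj c ≅ (EtCoh.push i).obj ((EtCoh.push (j ≫ ρ)).obj c) :=
    ((EtCoh.pushComp i (Spec.map ψ)).app c).symm ≪≫
      (EtCoh.push i).mapIso ((EtCoh.pushCongr hψ).app c)
  let e2 : (EtCoh.push i).obj ((EtCoh.push (j ≫ ρ)).obj c) ≅
      (EtCoh.push i).obj ((EtCoh.push ρ).obj ((EtCoh.push j).obj c)) :=
    (EtCoh.push i).mapIso ((EtCoh.pushComp ρ j).app c).symm
  let e3 : (EtCoh.push i).obj ((EtCoh.push ρ).obj ((EtCoh.push j).obj c)) ≅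
      (EtCoh.push i).obj ((EtCoh.push ρ).obj ((EtCoh.push j).obj
        ((EtCoh.pull j).obj (EtCoh.const T (ZMod ℓ))))) :=
    (EtCoh.push i).mapIso ((EtCoh.push ρ).mapIso ((EtCoh.push j).mapIso
      (EtCore.pullConst j (ZMod ℓ)).symm))
  exact CohBasic.van_of_iso (e1 ≪≫ e2 ≪≫ e3) n h1

/-- Vanishing for direct images of constructible sheaves from points. -/
theorem van_push (hℓ : ℓ.Prime) [IsNoetherian X] {Y : Scheme.{u}} (g : Y ⟶ X) [IsFinite g] (m : ℕ)
    (hV : Van φ ℓ m) (y : Y) (hy : dimf φ g y ≤ m) (G : EtCoh.Ab (Spec (Y.residueField y)))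
    (hG : _root_.Dix.IsPrimaryTorsion ℓ G) (hGc : EtPBC.IsConstructible G) (n : ℕ) (hn : m + 1 ≤ n) :
    Subsingleton (EtCoh.H Y ((EtCoh.push (Y.fromSpecResidueField y)).obj G) n) := by
  have := isNoetherian_of_finite g
  obtain ⟨N, hN, hk⟩ := EtpbcA.KilledBy.exists_killedBy_of_isConstructible hGc
  have hk' := killedBy_pow hℓ hG hN hk
  have hflc : EtCoh.IsFiniteLocallyConstant G :=
    Sga2lef.H97.FieldCons.isFLC_of_isConstructible (K := Y.residueField y) G hGc
  have hcl : PrimeDev219.Cl (PtExt.P y ℓ m) := PtExt.cl y ℓ m (hyp hφ hc g m hV y hy)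
  have hz : ∀ F : EtCoh.Ab (Spec (Y.residueField y)), IsZero F → PtExt.P y ℓ m F := fun F hF =>
    ⟨PrimOps.isPrimaryTorsion_of_isZero hF, fun n _ =>
      CdEtLeray.H_subsingleton_of_isZero ((EtCoh.push _).map_isZero hF) n⟩
  have key : PtExt.P y ℓ m G := by
    refine PrimeDev219.of_killed (X := Spec (Y.residueField y)) (ℓ ^ N) (pow_ne_zero N hℓ.ne_zero)
      hcl hz (fun q hq hqd T ρ _ _ => ?_) G hflc hk'
    have hqe : q = ℓ := (Nat.prime_dvd_prime_iff_eq hq hℓ).1 (hq.dvd_of_dvd_pow hqd)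
    subst hqe
    exact hb hφ hc g m hV y hy ρ
  exact key.2 n hn

/-- Vanishing for constructible sheaves with finitely many points of the support where `dimf = m`. -/
theorem van_finite (hℓ : ℓ.Prime) [IsNoetherian X] {Y : Scheme.{u}} (g : Y ⟶ X) [IsFinite g] (m : ℕ)
    (hV : Van φ ℓ m) (T : Finset Y) : ∀ F : EtCoh.Ab Y, _root_.Dix.IsPrimaryTorsion ℓ F →
      EtPBC.IsConstructible F →
      (∀ x ∈ EtPBC.supp F, dimf φ g x < m + 1) → (∀ x ∈ EtPBC.supp F, dimf φ g x = m → x ∈ T) →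
      ∀ n, m + 1 ≤ n → Subsingleton (EtCoh.H Y F n) := by
  classical
  have := isNoetherian_of_finite g
  induction T using Finset.induction_on with
  | empty =>
    intro F hF _ hs hT n hn
    refine hV Y g F hF (fun x hx => ?_) n (by omega)
    have h2 := hs x hx
    have h3 : dimf φ g x ≠ m := fun h => (Finset.notMem_empty x) (hT x hx h)
    omega
  | insert x T hxT ihT =>
    intro F hF hFc hs hT n hn
    by_cases hx : x ∈ EtPBC.supp F ∧ dimf φ g x = m
    · obtain ⟨hxF, hxm⟩ := hx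
      obtain ⟨n, rfl⟩ : ∃ k, n = k + 1 := ⟨n - 1, by omega⟩
      let i := Y.fromSpecResidueField x
      let u := (EtCoh.pullPushAdj i).unit.app F
      have hxr : x ∈ Set.range i := by
        rw [Y.range_fromSpecResidueField x]
        rfl
      have hG : _root_.Dix.IsPrimaryTorsion ℓ ((EtCoh.pull i).obj F) :=
        PrimTors.isPrimaryTorsion_pull ℓ i F hF
      refine Induct.van_of_ker_coker u n ?_ (van_push hφ hc hℓ g m hV x hxm.le _ hG
        (S0127.result i F hFc) (n + 1) hn) ?_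
      · have hsub : EtPBC.supp (kernel u) ⊆ EtPBC.supp F := SuppCons.supp_subset_of_mono (kernel.ι u)
        obtain ⟨N, hN, hk⟩ := EtpbcA.KilledBy.exists_killedBy_of_isConstructible hFc
        refine ihT _ (isPrimaryTorsion_of_mono (kernel.ι u) hF)
          (S0140.result Y (kernel.ι u) N hN hk hFc) (fun y hy => hs y (hsub hy))
          (fun y hy hym => ?_) (n + 1) hn
        have h2 := hT y (hsub hy) hym
        rw [Finset.mem_insert] at h2
        refine h2.resolve_left fun h3 => ?_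
        subst h3
        exact UnitPt.not_mem_supp_kernel i F hxr hy
      · refine hV Y g _ (isPrimaryTorsion_of_epi (cokernel.π u)
          (PrimTors.isPrimaryTorsion_push ℓ i _ hG)) (fun y hy => ?_) n (by omega)
        have h2 : y ∈ closure (Set.range i) :=
          supp_push_subset i _ (SuppClosed.supp_of_epi (cokernel.π u) hy)
        rw [Y.range_fromSpecResidueField x, ← specializes_iff_mem_closure] at h2
        have h3 : x ≠ y := fun h => UnitPt.not_mem_supp_cokernel i F (y := y) (h ▸ hxr) hy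
        rw [← hxm]
        exact dimf_lt hφ g x y h2 h3
    · refine ihT F hF hFc hs (fun y hy hym => ?_) n hn
      have h2 := hT y hy hym
      rw [Finset.mem_insert] at h2
      exact h2.resolve_left fun h3 => hx ⟨h3 ▸ hy, h3 ▸ hym⟩

/-- The induction. -/
theorem van (hℓ : ℓ.Prime) [IsNoetherian X] (m : ℕ) : Van φ ℓ m := by
  induction m with
  | zero =>
    intro Y g _ F _ hs n _
    have h0 : IsZero F := isZero_of_forall F fun x hx => by
      have := hs x hx
      omega
    exact CdEtLeray.H_subsingleton_of_isZero h0 n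
  | succ m ih =>
    intro Y g _ F hF hs n hn
    have := isNoetherian_of_finite g
    refine van_of_supp_stable' {x | dimf φ g x < m + 1} n (fun x y hxy hx => ?_) F hs ?_
    · by_cases h : x = y
      · exact h ▸ hx
      · exact (dimf_lt hφ g x y hxy h).trans hx
    · intro Z hZ hZE
      have hfin := Induct.finite_max (dimf φ g) (dimf_lt hφ g) m Z hZ
        (fun x hx => Nat.lt_succ_iff.1 (hZE hx))
      have hsub := supp_sub F Z
      have hprim : _root_.Dix.IsPrimaryTorsion ℓ (sub (suppData F Z)) :=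
        isPrimaryTorsion_of_mono (ι (suppData F Z)) hF
      refine ConsRed.van_of_constructible_sub _ (PrimTors.isTorsion_of_isPrimaryTorsion hℓ.pos hprim) n
        fun I i _ hI => ?_
      have hIsub : EtPBC.supp I ⊆ EtPBC.supp (sub (suppData F Z)) := SuppCons.supp_subset_of_mono i
      refine van_finite hφ hc hℓ g m ih hfin.toFinset I (isPrimaryTorsion_of_mono i hprim) hI
        (fun x hx => hs x (hsub (hIsub hx)).2) (fun x hx hxm => ?_) n hn
      rw [Set.Finite.mem_toFinset]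
      exact ⟨(hsub (hIsub hx)).1, hxm⟩

end K549.DimInd
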