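import Mathlib

/-!
# `Proj` of a graded algebra with flat pieces is flat
-/

set_option autoImplicit false
universe u

open CategoryTheory CategoryTheory.Limits AlgebraicGeometry HomogeneousLocalization

namespace K549.FlatProj

variable {A B : Type u} [CommRing A] [CommRing B] [Algebra A B] (ℬ : ℕ → Submodule A B)
  [GradedAlgebra ℬ]

/-- The degree-zero part of a localization of a graded algebra with flat pieces is flat. -/
theorem flat_abs (hflat : ∀ d, Module.Flat A (ℬ d)) {f : B} {m : ℕ} (hf : f ∈ ℬ m)
    (M L : Type u) [CommRing M] [Algebra A M] [CommRing L] [Algebra B L]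
    [IsLocalization.Away f L] (v : M →+* L) (hv : Function.Injective v)
    (hval : ∀ c, v (algebraMap A M c) = algebraMap B L (algebraMap A B c))
    (hev : ∀ z : M, ∀ᶠ n in Filter.atTop, f ^ n • v z ∈ algebraMap B L '' (ℬ (n • m) : Set B))
    (hmk : ∀ n, ∀ x ∈ ℬ (n • m), ∃ z : M, algebraMap B L (f ^ n) * v z = algebraMap B L x) :
    Module.Flat A M := by
  refine Module.Flat.of_forall_isTrivialRelation fun {l c z} hz => ?_
  obtain ⟨n, hn⟩ := (Filter.eventually_all.mpr fun i => hev (z i)).exists
  choose x hx hxz using hn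
  -- the relation in `B`
  have h1 : algebraMap B L (∑ i, algebraMap A B (c i) * x i) = 0 := by
    have h2 : ∑ i, algebraMap B L (algebraMap A B (c i)) * v (z i) = 0 := by
      have := congrArg v hz
      rw [map_sum, map_zero] at this
      rw [← this]
      refine Finset.sum_congr rfl fun i _ => ?_
      rw [Algebra.smul_def, map_mul, hval]
    have h3 := congrArg (fun y => f ^ n • y) h2
    simp only [smul_zero, Finset.smul_sum] at h3
    rw [map_sum, ← h3]
    refine Finset.sum_congr rfl fun i _ => ?_
    rw [map_mul, hxz, Algebra.smul_def, Algebra.smul_def]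
    ring
  rw [IsLocalization.map_eq_zero_iff (Submonoid.powers f) L] at h1
  obtain ⟨⟨_, e, rfl⟩, he⟩ := h1
  let y : Fin l → ℬ ((e + n) • m) := fun i => ⟨f ^ e * x i, by
    have := SetLike.mul_mem_graded (SetLike.pow_mem_graded e hf) (hx i)
    rwa [← add_smul] at this⟩
  have hy : ∑ i, c i • y i = 0 := by
    apply Subtype.ext
    rw [AddSubmonoidClass.coe_finsetSum]
    change ∑ i, (c i • y i : ℬ ((e + n) • m)).1 = 0
    have he' : f ^ e * ∑ i, algebraMap A B (c i) * x i = 0 := he
    rw [← he', Finset.mul_sum]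
    refine Finset.sum_congr rfl fun i _ => ?_
    change c i • (f ^ e * x i) = _
    rw [Algebra.smul_def]
    ring
  haveI := hflat ((e + n) • m)
  obtain ⟨k, a, w, hw, ha⟩ := Module.Flat.isTrivialRelation_of_sum_smul_eq_zero hy
  choose t ht using fun j => hmk (e + n) (w j) (w j).2
  refine ⟨k, a, t, fun i => ?_, ha⟩
  apply hv
  have hu : IsUnit (algebraMap B L (f ^ (e + n))) := by
    rw [map_pow]
    exact (IsLocalization.Away.algebraMap_isUnit f).pow _
  refine hu.mul_left_cancel ?_
  rw [map_sum, Finset.mul_sum]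
  have h4 : algebraMap B L (f ^ (e + n)) * v (z i) = algebraMap B L (y i) := by
    change _ = algebraMap B L (f ^ e * x i)
    rw [map_mul, hxz, Algebra.smul_def, ← mul_assoc, ← map_mul, ← pow_add]
  have h5 : (y i : B) = ∑ j, a i j • (w j : B) := by
    have := congrArg Subtype.val (hw i)
    rw [this, AddSubmonoidClass.coe_finsetSum]
    rfl
  rw [h4, h5, map_sum]
  refine Finset.sum_congr rfl fun j _ => ?_
  have h6 : v (a i j • t j) = algebraMap B L (algebraMap A B (a i j)) * v (t j) := by
    rw [Algebra.smul_def, map_mul, hval]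
  have h7 : algebraMap B L (a i j • (w j : B)) =
      algebraMap B L (algebraMap A B (a i j)) * algebraMap B L (w j : B) := by
    rw [Algebra.smul_def, map_mul]
  rw [h6, h7, ← ht]
  ring

theorem flat_away (hflat : ∀ d, Module.Flat A (ℬ d)) {f : B} {m : ℕ} (hf : f ∈ ℬ m) :
    ((fromZeroRingHom ℬ (Submonoid.powers f)).comp (algebraMap A (ℬ 0))).Flat := by
  let alg := ((fromZeroRingHom ℬ (Submonoid.powers f)).comp (algebraMap A (ℬ 0))).toAlgebra
  let v : Away ℬ f →+* Localization.Away f := algebraMap (Away ℬ f) (Localization.Away f)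
  refine @flat_abs A B _ _ _ ℬ _ hflat f m hf (Away ℬ f) (Localization.Away f) _ alg _ _ _ v
    (HomogeneousLocalization.val_injective _) ?_ ?_ ?_
  · intro c
    rw [← Localization.mk_one_eq_algebraMap]
    rfl
  · intro z
    exact Away.eventually_smul_mem hf z
  · intro n x hx
    refine ⟨Away.mk ℬ hf n x hx, ?_⟩
    change _ * Localization.mk x ⟨f ^ n, _⟩ = _
    rw [← Localization.mk_one_eq_algebraMap, ← Localization.mk_one_eq_algebraMap,
      Localization.mk_mul, Localization.mk_eq_mk_iff, Localization.r_iff_exists]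
    exact ⟨1, by simp⟩

/-- `Proj` of a graded algebra with flat pieces is flat over the base. -/
theorem flat_proj (hflat : ∀ d, Module.Flat A (ℬ d)) :
    Flat (Proj.toSpecZero ℬ ≫ Spec.map (CommRingCat.ofHom (algebraMap A (ℬ 0)))) := by
  haveI : IsZariskiLocalAtSource @Flat :=
    HasRingHomProperty.instIsZariskiLocalAtSource (P := @Flat) (Q := RingHom.Flat)
  rw [IsZariskiLocalAtSource.iff_of_openCover (P := @Flat) (Proj.affineOpenCover ℬ).openCover]
  have h : ∀ (i : ℕ) (hi : 0 < i) (f : B) (hf : f ∈ ℬ i), Flat (Proj.awayι ℬ f hf hi ≫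
      Proj.toSpecZero ℬ ≫ Spec.map (CommRingCat.ofHom (algebraMap A (ℬ 0)))) := by
    intro i hi f hf
    rw [Proj.awayι_toSpecZero_assoc, ← Spec.map_comp, ← CommRingCat.ofHom_comp,
      Flat.SpecMap_iff]
    exact flat_away ℬ hflat hf
  exact fun s => h s.1.1 s.1.2 s.2.1 s.2.2

end K549.FlatProj
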