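import Groth.Agent.EtCd.K549.HomAvoid
import Groth.Agent.Lefpen.H121.Depth2

/-!
# Forms in a homogeneous ideal cutting out a complete intersection in the closed fibre
-/

set_option autoImplicit false
universe u

open MvPolynomial

namespace K549.Forms

open Groth.Agent.Lefpen.H121.Depth2

attribute [local instance] MvPolynomial.gradedAlgebra

variable {A k : Type u} [CommRing A] [Field k] {N : ℕ}

/-- Forms of positive degree in a homogeneous ideal, as many as the height of the ideal in the
fibre, which generate an ideal of that height in the fibre. -/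
theorem exists_forms (π : A →+* k) (I : Ideal (MvPolynomial (Fin (N + 1)) A))
    (hI : I.IsHomogeneous (homogeneousSubmodule (Fin (N + 1)) A)) (r : ℕ) (hr : r ≤ N + 1)
    (hht : (r : ℕ∞) ≤ (I.map (MvPolynomial.map π)).height) :
    ∀ j ≤ r, ∃ (F : Fin j → MvPolynomial (Fin (N + 1)) A) (a : Fin j → ℕ), (∀ i, 1 ≤ a i) ∧
      (∀ i, (F i).IsHomogeneous (a i)) ∧ (∀ i, F i ∈ I) ∧
      (j : ℕ∞) ≤ (Ideal.span (Set.range fun i => MvPolynomial.map π (F i))).height := by
  intro j
  induction j with
  | zero =>
    intro _
    exact ⟨Fin.elim0, Fin.elim0, fun i => i.elim0, fun i => i.elim0, fun i => i.elim0, by simp⟩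
  | succ j ih =>
    intro hj
    obtain ⟨F, a, ha, hF, hFI, hh⟩ := ih (by omega)
    set J : Ideal (MvPolynomial (Fin (N + 1)) k) :=
      Ideal.span (Set.range fun i => MvPolynomial.map π (F i)) with hJ
    have hfin : J.minimalPrimes.Finite := Ideal.finite_minimalPrimes_of_isNoetherianRing _ _
    have hle : ∀ p ∈ J.minimalPrimes, p.height ≤ (j : ℕ∞) :=
      fun p hp => height_minimalPrime_le _ p hp
    classical
    obtain ⟨d, hd, f, hfd, hfI, hf⟩ := HomAvoid.exists_homogeneous_notMem
      (homogeneousSubmodule (Fin (N + 1)) A) I
      (hfin.toFinset.image (fun p => p.comap (MvPolynomial.map π))) (by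
        intro q hq
        obtain ⟨p, hp, rfl⟩ := Finset.mem_image.mp hq
        rw [Set.Finite.mem_toFinset] at hp
        haveI : p.IsPrime := hp.1.1
        infer_instance) (by
        intro q hq
        obtain ⟨p, hp, rfl⟩ := Finset.mem_image.mp hq
        rw [Set.Finite.mem_toFinset] at hp
        have hpp : p.IsPrime := hp.1.1
        -- a variable outside `p`
        obtain ⟨i, hi⟩ : ∃ i : Fin (N + 1), (X i : MvPolynomial (Fin (N + 1)) k) ∉ p := by
          by_contra hcon
          push Not at hcon
          have h1 := Groth.Agent.Lefpen.H718.Reg.le_height_irrelevant p hcon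
          have h2 := h1.trans (hle p hp)
          rw [Nat.cast_le] at h2
          omega
        -- an element of `I` outside `p`
        obtain ⟨x, hxI, hxp⟩ : ∃ x ∈ I, MvPolynomial.map π x ∉ p := by
          by_contra hcon
          push Not at hcon
          have h1 : I.map (MvPolynomial.map π) ≤ p := by
            rw [Ideal.map_le_iff_le_comap]
            exact hcon
          have h2 := hht.trans ((Ideal.height_mono h1).trans (hle p hp))
          rw [Nat.cast_le] at h2
          omega
        obtain ⟨e, he⟩ : ∃ e, MvPolynomial.map π
            (homogeneousComponent e x) ∉ p := by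
          by_contra hcon
          push Not at hcon
          apply hxp
          rw [← sum_homogeneousComponent x, map_sum]
          exact sum_mem fun e _ => hcon e
        have hex : homogeneousComponent e x ∈ I := by
          have := hI e hxI
          rwa [← MvPolynomial.decomposition.decompose'_apply]
        refine ⟨e + 1, Nat.succ_pos _, homogeneousComponent e x * X i, ?_, ?_, ?_⟩
        · exact (homogeneousComponent_isHomogeneous e x).mul (isHomogeneous_X A i)
        · exact Ideal.mul_mem_right _ _ hex
        · intro h
          rw [Ideal.mem_comap, map_mul, MvPolynomial.map_X] at h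
          rcases hpp.mem_or_mem h with h | h
          · exact he h
          · exact hi h)
    refine ⟨Fin.snoc F f, Fin.snoc a d, ?_, ?_, ?_, ?_⟩
    · intro i
      obtain ⟨i, rfl⟩ | rfl := Fin.eq_castSucc_or_eq_last i
      · simpa using ha i
      · rw [Fin.snoc_last]; exact hd
    · intro i
      obtain ⟨i, rfl⟩ | rfl := Fin.eq_castSucc_or_eq_last i
      · simpa using hF i
      · simpa using hfd
    · intro i
      obtain ⟨i, rfl⟩ | rfl := Fin.eq_castSucc_or_eq_last i
      · simpa using hFI i
      · simpa using hfI
    · have h3 : (Ideal.span (Set.range fun i : Fin (j + 1) => MvPolynomial.map π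
          ((Fin.snoc F f : Fin (j + 1) → MvPolynomial (Fin (N + 1)) A) i))) =
          J ⊔ Ideal.span {MvPolynomial.map π f} := by
        have : (fun i : Fin (j + 1) => MvPolynomial.map π
          ((Fin.snoc F f : Fin (j + 1) → MvPolynomial (Fin (N + 1)) A) i)) =
          (Fin.snoc (fun i => MvPolynomial.map π (F i)) (MvPolynomial.map π f) :
            Fin (j + 1) → MvPolynomial (Fin (N + 1)) k) := by
          funext i
          obtain ⟨i, rfl⟩ | rfl := Fin.eq_castSucc_or_eq_last i
          · simp
          · simp
        rw [this, Fin.range_snoc, Set.insert_eq, Ideal.span_union, sup_comm]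
      rw [h3]
      refine succ_le_height_sup _ _ _ hh ?_
      intro p hp hmem
      refine hf (p.comap (MvPolynomial.map π)) ?_ hmem
      exact Finset.mem_image.mpr ⟨p, by rwa [Set.Finite.mem_toFinset], rfl⟩

end K549.Forms
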