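import Mathlib
import Groth.Agent.Ega2.H291.QuotGr

/-!
# Freeness of the graded pieces of a quotient by forms which are regular in the closed fibre
-/

set_option autoImplicit false
universe u

open IsLocalRing DirectSum TensorProduct

namespace K549.GrFree

open Groth.Agent.Ega2.H291.QuotGr

section step

variable {A : Type u} [CommRing A] [IsLocalRing A] {B B' : Type u} [CommRing B] [Algebra A B]
  [CommRing B'] [Algebra A B'] (ℬ : ℕ → Submodule A B) [GradedAlgebra ℬ]
  (ℬ' : ℕ → Submodule A B')

theorem mem_smul_top {d : ℕ} (y : ℬ d)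
    (hy : (y : B) ∈ (maximalIdeal A).map (algebraMap A B)) :
    y ∈ maximalIdeal A • (⊤ : Submodule A (ℬ d)) := by
  let p : B →ₗ[A] ℬ d :=
    (DirectSum.component A ℕ (fun i => ℬ i) d).comp (DirectSum.decomposeLinearEquiv ℬ).toLinearMap
  have hp : p y = y := by
    change (DirectSum.decompose ℬ (y : B)) d = y
    rw [DirectSum.decompose_coe, DirectSum.of_eq_same]
  have h1 : (y : B) ∈ maximalIdeal A • (⊤ : Submodule A B) := by
    rw [Ideal.smul_top_eq_map]
    exact hy
  have h2 : p y ∈ (maximalIdeal A • (⊤ : Submodule A B)).map p := ⟨_, h1, rfl⟩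
  rw [Submodule.map_smul'', hp] at h2
  exact Submodule.smul_mono le_rfl le_top h2

theorem mem_map_of_mem_smul_top {d : ℕ} (y : ℬ d)
    (hy : y ∈ maximalIdeal A • (⊤ : Submodule A (ℬ d))) :
    (y : B) ∈ (maximalIdeal A).map (algebraMap A B) := by
  have h1 : (ℬ d).subtype y ∈ (maximalIdeal A • (⊤ : Submodule A (ℬ d))).map (ℬ d).subtype :=
    ⟨_, hy, rfl⟩
  rw [Submodule.map_smul''] at h1
  have h2 := Submodule.smul_mono (le_refl (maximalIdeal A))
    (le_top : ((⊤ : Submodule A (ℬ d)).map (ℬ d).subtype) ≤ ⊤) h1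
  rw [Ideal.smul_top_eq_map] at h2
  exact h2

/-- One step: the quotient by a form which is a nonzerodivisor in the closed fibre. -/
theorem free_step [∀ d, Module.Finite A (ℬ d)] (hfree : ∀ d, Module.Free A (ℬ d)) (F : B) (e : ℕ)
    (hF : F ∈ ℬ e)
    (hreg : ∀ x : B, F * x ∈ (maximalIdeal A).map (algebraMap A B) →
      x ∈ (maximalIdeal A).map (algebraMap A B))
    (ψ : B →ₐ[A] B') (hψ : ∀ d, (ℬ d).map ψ.toLinearMap = ℬ' d)
    (hker : ∀ x, ψ x = 0 ↔ x ∈ Ideal.span {F}) (d : ℕ) : Module.Free A (ℬ' d) := by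
  have hψd : ∀ x ∈ ℬ d, ψ x ∈ ℬ' d := fun x hx => hψ d ▸ ⟨x, hx, rfl⟩
  let g : ℬ d →ₗ[A] ℬ' d := ψ.toLinearMap.restrict hψd
  have hg : Function.Surjective g := by
    rintro ⟨y, hy⟩
    rw [← hψ d] at hy
    obtain ⟨x, hx, rfl⟩ := hy
    exact ⟨⟨x, hx⟩, rfl⟩
  have hmem : ∀ y : ℬ d, g y = 0 ↔ (y : B) ∈ Ideal.span {F} := by
    intro y
    rw [← hker]
    exact Subtype.ext_iff
  by_cases hed : e ≤ d
  · have hf0 : ∀ x ∈ ℬ (d - e), F * x ∈ ℬ d := by
      intro x hx
      have := SetLike.mul_mem_graded hF hx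
      rwa [Nat.add_sub_cancel' hed] at this
    let f : ℬ (d - e) →ₗ[A] ℬ d := (LinearMap.mulLeft A F).restrict hf0
    have hex : Function.Exact f g := by
      intro y
      rw [hmem]
      constructor
      · intro hy
        obtain ⟨c, hc⟩ := Ideal.mem_span_singleton'.mp hy
        refine ⟨DirectSum.decompose ℬ c (d - e), ?_⟩
        apply Subtype.ext
        change F * (DirectSum.decompose ℬ c (d - e) : B) = y
        rw [← DirectSum.coe_decompose_mul_of_left_mem_of_le ℬ hF hed, mul_comm F c, hc,
          DirectSum.decompose_coe, DirectSum.of_eq_same]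
      · rintro ⟨x, rfl⟩
        exact Ideal.mul_mem_right _ _ (Ideal.mem_span_singleton_self F)
    refine Module.free_of_lTensor_residueField_injective f g hg hex ?_
    rw [injective_iff_map_eq_zero]
    intro x hx
    obtain ⟨y, rfl⟩ := TensorProduct.mk_surjective A (ℬ (d - e)) (ResidueField A)
      Ideal.Quotient.mk_surjective x
    have h1 : TensorProduct.mk A (A ⧸ maximalIdeal A) (ℬ d) 1 (f y) = 0 := hx
    rw [← LinearMap.mem_ker, LinearMap.ker_tensorProductMk] at h1
    have h2 := hreg y (mem_map_of_mem_smul_top ℬ _ h1)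
    have h3 := mem_smul_top ℬ y h2
    rw [← LinearMap.ker_tensorProductMk, LinearMap.mem_ker] at h3
    exact h3
  · have hinj : Function.Injective g := by
      rw [injective_iff_map_eq_zero]
      intro y hy
      rw [hmem] at hy
      obtain ⟨c, hc⟩ := Ideal.mem_span_singleton'.mp hy
      apply Subtype.ext
      have h1 := DirectSum.coe_decompose_mul_of_left_mem_of_not_le ℬ (b := c) hF hed
      rw [mul_comm F c, hc, DirectSum.decompose_coe, DirectSum.of_eq_same] at h1
      exact h1
    exact Module.Free.of_equiv (LinearEquiv.ofBijective g ⟨hinj, hg⟩)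

end step

section poly

open MvPolynomial

attribute [local instance] MvPolynomial.gradedAlgebra

variable (A : Type u) [CommRing A] (N : ℕ)

theorem free_homogeneous (d : ℕ) :
    Module.Free A (homogeneousSubmodule (Fin (N + 1)) A d) := by
  rw [homogeneousSubmodule_eq_finsupp_supported]
  exact Module.Free.of_equiv (AddMonoidAlgebra.supportedEquivFinsupp _).symm

theorem finite_homogeneous (d : ℕ) :
    Module.Finite A (homogeneousSubmodule (Fin (N + 1)) A d) :=
  Module.Finite.iff_fg.mpr (homogeneousSubmodule_fg _ _ d)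

theorem finite_gr (J : Ideal (MvPolynomial (Fin (N + 1)) A)) (d : ℕ) :
    Module.Finite A (gr (homogeneousSubmodule (Fin (N + 1)) A) J d) := by
  haveI := finite_homogeneous A N d
  exact Module.Finite.map _ _

variable {A} {N}

theorem free_gr_bot (d : ℕ) : Module.Free A
    (gr (homogeneousSubmodule (Fin (N + 1)) A) (⊥ : Ideal (MvPolynomial (Fin (N + 1)) A)) d) := by
  haveI := free_homogeneous A N d
  refine Module.Free.of_equiv (Submodule.equivMapOfInjective
    (Ideal.Quotient.mkₐ A (⊥ : Ideal (MvPolynomial (Fin (N + 1)) A))).toLinearMap ?_ _)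
  intro x y hxy
  have h : Ideal.Quotient.mk (⊥ : Ideal (MvPolynomial (Fin (N + 1)) A)) x =
    Ideal.Quotient.mk ⊥ y := hxy
  rw [Ideal.Quotient.eq, Ideal.mem_bot, sub_eq_zero] at h
  exact h

variable [IsLocalRing A]

theorem mk_mem_iff (J : Ideal (MvPolynomial (Fin (N + 1)) A)) (t : MvPolynomial (Fin (N + 1)) A) :
    Ideal.Quotient.mk J t ∈
      (maximalIdeal A).map (algebraMap A (MvPolynomial (Fin (N + 1)) A ⧸ J)) ↔
      MvPolynomial.map (residue A) t ∈ J.map (MvPolynomial.map (residue A)) := by
  have h1 : (maximalIdeal A).map (algebraMap A (MvPolynomial (Fin (N + 1)) A ⧸ J)) =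
      ((maximalIdeal A).map (C : A →+* MvPolynomial (Fin (N + 1)) A)).map
        (Ideal.Quotient.mk J) := by
    rw [Ideal.map_map]
    rfl
  have h2 : (((maximalIdeal A).map (C : A →+* MvPolynomial (Fin (N + 1)) A)).map
      (Ideal.Quotient.mk J)).comap (Ideal.Quotient.mk J) =
      (maximalIdeal A).map (C : A →+* MvPolynomial (Fin (N + 1)) A) ⊔ J := by
    rw [Ideal.comap_map_of_surjective _ Ideal.Quotient.mk_surjective]
    congr 1
    exact Ideal.mk_ker
  have h3 : (J.map (MvPolynomial.map (residue A))).comap (MvPolynomial.map (residue A)) =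
      J ⊔ (maximalIdeal A).map (C : A →+* MvPolynomial (Fin (N + 1)) A) := by
    rw [Ideal.comap_map_of_surjective _ (MvPolynomial.map_surjective _ residue_surjective)]
    congr 1
    change RingHom.ker (MvPolynomial.map (σ := Fin (N + 1)) (residue A)) = _
    rw [MvPolynomial.ker_map, ker_residue]
  rw [h1, ← Ideal.mem_comap, h2, ← Ideal.mem_comap (f := MvPolynomial.map (residue A)), h3,
    sup_comm]

/-- Forms which are regular in the closed fibre cut out a graded algebra with free pieces. -/
theorem free_gr : ∀ (j : ℕ) (F : Fin j → MvPolynomial (Fin (N + 1)) A) (a : Fin j → ℕ)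
    (_ : ∀ i, (F i).IsHomogeneous (a i))
    (_ : ∀ (c : Fin j) (f : MvPolynomial (Fin (N + 1)) (ResidueField A)),
      MvPolynomial.map (residue A) (F c) * f ∈
        Ideal.span ((fun i => MvPolynomial.map (residue A) (F i)) '' {i | i < c}) →
      f ∈ Ideal.span ((fun i => MvPolynomial.map (residue A) (F i)) '' {i | i < c})) (d : ℕ),
    Module.Free A (gr (homogeneousSubmodule (Fin (N + 1)) A) (Ideal.span (Set.range F)) d) := by
  intro j
  induction j with
  | zero =>
    intro F a _ _ d
    have : Ideal.span (Set.range F) = ⊥ := by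
      rw [Set.range_eq_empty, Ideal.span_empty]
    rw [this]
    exact free_gr_bot d
  | succ j ih =>
    intro F a hF hreg d
    let F' : Fin j → MvPolynomial (Fin (N + 1)) A := fun i => F i.castSucc
    set J : Ideal (MvPolynomial (Fin (N + 1)) A) := Ideal.span (Set.range F') with hJ
    set J' : Ideal (MvPolynomial (Fin (N + 1)) A) := Ideal.span (Set.range F) with hJ'
    have himg : ∀ {T : Type u} (G : Fin (j + 1) → T) (c : Fin j),
        G '' {i | i < c.castSucc} = (fun i : Fin j => G i.castSucc) '' {i | i < c} := by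
      intro T G c
      ext x
      constructor
      · rintro ⟨i, hi, rfl⟩
        have hi' : i < c.castSucc := hi
        obtain ⟨i, rfl⟩ | rfl := Fin.eq_castSucc_or_eq_last i
        · exact ⟨i, Fin.castSucc_lt_castSucc_iff.mp hi', rfl⟩
        · exact absurd (hi'.trans (Fin.castSucc_lt_last c)) (lt_irrefl _)
      · rintro ⟨i, hi, rfl⟩
        exact ⟨i.castSucc, Fin.castSucc_lt_castSucc_iff.mpr hi, rfl⟩
    have hfree : ∀ d, Module.Free A (gr (homogeneousSubmodule (Fin (N + 1)) A) J d) := by
      refine ih F' (fun i => a i.castSucc) (fun i => hF _) ?_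
      intro c f hf
      have h1 := hreg c.castSucc f
      rw [himg] at h1
      exact h1 hf
    have hJh : J.IsHomogeneous (homogeneousSubmodule (Fin (N + 1)) A) := by
      apply Ideal.homogeneous_span
      rintro _ ⟨i, rfl⟩
      exact ⟨a i.castSucc, (mem_homogeneousSubmodule _ _).mpr (hF _)⟩
    have hJJ : J' = J ⊔ Ideal.span {F (Fin.last j)} := by
      rw [hJ', hJ, ← Ideal.span_union]
      congr 1
      ext x
      constructor
      · rintro ⟨i, rfl⟩
        obtain ⟨i, rfl⟩ | rfl := Fin.eq_castSucc_or_eq_last i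
        · exact Or.inl ⟨i, rfl⟩
        · exact Or.inr rfl
      · rintro (⟨i, rfl⟩ | h)
        · exact ⟨_, rfl⟩
        · rw [Set.mem_singleton_iff.mp h]
          exact ⟨_, rfl⟩
    have hle : J ≤ J' := hJJ ▸ le_sup_left
    letI := gradedAlgebra (homogeneousSubmodule (Fin (N + 1)) A) hJh
    haveI : ∀ d, Module.Finite A (gr (homogeneousSubmodule (Fin (N + 1)) A) J d) :=
      fun d => finite_gr A N J d
    refine free_step (gr (homogeneousSubmodule (Fin (N + 1)) A) J)
      (gr (homogeneousSubmodule (Fin (N + 1)) A) J') hfree (Ideal.Quotient.mk J (F (Fin.last j)))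
      (a (Fin.last j)) (mk_mem _ _ (hF _)) ?_ (Ideal.Quotient.factorₐ A hle) ?_ ?_ d
    · intro x hx
      obtain ⟨t, rfl⟩ := Ideal.Quotient.mk_surjective x
      rw [← map_mul, mk_mem_iff, map_mul] at hx
      rw [mk_mem_iff]
      have h1 : J.map (MvPolynomial.map (residue A)) =
          Ideal.span ((fun i => MvPolynomial.map (residue A) (F i)) '' {i | i < Fin.last j}) := by
        rw [hJ, Ideal.map_span]
        congr 1
        ext y
        constructor
        · rintro ⟨_, ⟨i, rfl⟩, rfl⟩
          exact ⟨i.castSucc, Fin.castSucc_lt_last i, rfl⟩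
        · rintro ⟨i, hi, rfl⟩
          obtain ⟨i, rfl⟩ | rfl := Fin.eq_castSucc_or_eq_last i
          · exact ⟨_, ⟨i, rfl⟩, rfl⟩
          · exact absurd (show Fin.last j < Fin.last j from hi) (lt_irrefl _)
      rw [h1] at hx ⊢
      exact hreg _ _ hx
    · intro d
      rw [gr, gr, ← Submodule.map_comp]
      rfl
    · intro x
      obtain ⟨t, rfl⟩ := Ideal.Quotient.mk_surjective x
      have h1 : Ideal.Quotient.factorₐ A hle (Ideal.Quotient.mk J t) = Ideal.Quotient.mk J' t := rfl
      rw [h1, Ideal.Quotient.eq_zero_iff_mem, hJJ]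
      have h2 : Ideal.span {Ideal.Quotient.mk J (F (Fin.last j))} =
          (Ideal.span {F (Fin.last j)}).map (Ideal.Quotient.mk J) := by
        rw [Ideal.map_span, Set.image_singleton]
      rw [h2, ← Ideal.mem_comap, Ideal.comap_map_of_surjective _ Ideal.Quotient.mk_surjective,
        sup_comm]
      have h3 : Ideal.comap (Ideal.Quotient.mk J) ⊥ = J := Ideal.mk_ker
      rw [h3]

end poly

end K549.GrFree
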