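import Groth.Agent.EtCd.K549.ZMap
import Groth.Agent.EtCd.K549.GrFree
import Groth.Agent.EtCd.K549.Forms
import Groth.Agent.Ega3B.ProjProper
import Groth.Agent.S0403

/-!
# Flat projective thickenings of bounded relative dimension
-/

set_option autoImplicit false
universe u

open CategoryTheory CategoryTheory.Limits AlgebraicGeometry MvPolynomial TopologicalSpace

namespace K549.FlatThick

open CohB1 Groth.Agent.Ega2.H291.QuotGr K549.ProjDim K549.ZMap Groth.Agent.CohqB.ProjBC

variable {A : Type u} [CommRing A] [IsLocalRing A] {N : ℕ}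

/-- The closed point of the spectrum. -/
noncomputable abbrev cpt (A : Type u) [CommRing A] [IsLocalRing A] :
    ↥(Spec (CommRingCat.of A)) := (IsLocalRing.closedPoint A : PrimeSpectrum A)

/-- The special fibre of projective space. -/
noncomputable abbrev sp (A : Type u) [CommRing A] [IsLocalRing A] (N : ℕ) :
    ProjSpace N (IsLocalRing.ResidueField A) ⟶ ProjSpace N A :=
  pmap (IsLocalRing.residue A) N

theorem isClosedImmersion_sp : IsClosedImmersion (sp A N) := by
  have h := isPullback_pmap (IsLocalRing.residue A) N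
  have h2 : IsClosedImmersion (Spec.map (CommRingCat.ofHom (IsLocalRing.residue A))) :=
    IsClosedImmersion.spec_of_surjective _ IsLocalRing.residue_surjective
  exact MorphismProperty.of_isPullback h.flip h2

theorem range_spec : Set.range (Spec.map (CommRingCat.ofHom (IsLocalRing.residue A))) =
    {cpt A} := by
  apply Set.Subset.antisymm
  · rintro _ ⟨x, rfl⟩
    rw [Set.mem_singleton_iff]
    apply PrimeSpectrum.ext
    change (x : PrimeSpectrum (IsLocalRing.ResidueField A)).asIdeal.comap
      (IsLocalRing.residue A) = IsLocalRing.maximalIdeal A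
    have hx : (x : PrimeSpectrum (IsLocalRing.ResidueField A)).asIdeal = ⊥ :=
      (Ideal.eq_bot_or_top _).resolve_right (PrimeSpectrum.isPrime _).ne_top
    rw [hx]
    exact IsLocalRing.ker_residue
  · rintro _ rfl
    refine ⟨(⊥ : PrimeSpectrum (IsLocalRing.ResidueField A)), ?_⟩
    apply PrimeSpectrum.ext
    exact IsLocalRing.ker_residue

theorem range_sp : Set.range (sp A N) = (ProjSpace.toSpec N A) ⁻¹' {cpt A} := by
  have h := isPullback_pmap (IsLocalRing.residue A) N
  have h1 : sp A N = h.isoPullback.hom ≫ pullback.fst _ _ := (h.isoPullback_hom_fst).symm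
  rw [h1, Scheme.Hom.comp_base]
  change Set.range ((pullback.fst (ProjSpace.toSpec N A)
    (Spec.map (CommRingCat.ofHom (IsLocalRing.residue A)))) ∘ h.isoPullback.hom) = _
  have hs : Function.Surjective h.isoPullback.hom := h.isoPullback.hom.homeomorph.surjective
  rw [Set.range_comp, Set.range_eq_univ.mpr hs, Set.image_univ,
    Scheme.Pullback.range_fst, range_spec]

theorem toSpec_sp (x : ProjSpace N (IsLocalRing.ResidueField A)) :
    ProjSpace.toSpec N A (sp A N x) = cpt A := by
  have h : sp A N x ∈ Set.range (sp A N) := ⟨x, rfl⟩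
  rw [range_sp] at h
  exact h

/-- The image of the ideal in the closed fibre. -/
noncomputable abbrev red (I : Ideal (MvPolynomial (Fin (N + 1)) A)) :
    Ideal (MvPolynomial (Fin (N + 1)) (IsLocalRing.ResidueField A)) :=
  I.map (MvPolynomial.map (IsLocalRing.residue A))

theorem le_idl_sp_iff (I : Ideal (MvPolynomial (Fin (N + 1)) A))
    (x : ProjSpace N (IsLocalRing.ResidueField A)) : I ≤ idl (sp A N x) ↔ red I ≤ idl x := by
  rw [idl_pmap, Ideal.map_le_iff_le_comap]

theorem red_isHomogeneous {I : Ideal (MvPolynomial (Fin (N + 1)) A)}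
    (hI : I.IsHomogeneous (polyGrading N A)) :
    (red I).IsHomogeneous (polyGrading N (IsLocalRing.ResidueField A)) := by
  rw [Ideal.IsHomogeneous.iff_exists] at hI
  obtain ⟨S, hS⟩ := hI
  rw [red, hS, Ideal.map_span]
  apply Ideal.homogeneous_span
  rintro _ ⟨_, ⟨⟨x, d, hx⟩, -, rfl⟩, rfl⟩
  refine ⟨d, ?_⟩
  rw [MvPolynomial.mem_homogeneousSubmodule] at hx ⊢
  exact hx.map _

/-- The dimension of the closed fibre. -/
theorem dim_red_le {X : Scheme.{u}} (i : X ⟶ ProjSpace N A) [IsClosedImmersion i]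
    {I : Ideal (MvPolynomial (Fin (N + 1)) A)} (hI : I.IsHomogeneous (polyGrading N A))
    (e : X ≅ ZS hI) (he : e.hom ≫ zmap hI = i) :
    topologicalKrullDim {x : ProjSpace N (IsLocalRing.ResidueField A) | red I ≤ idl x} ≤
      topologicalKrullDim ((i ≫ ProjSpace.toSpec N A).fiber (cpt A)) := by
  haveI := isClosedImmersion_sp (A := A) (N := N)
  refine dim_le_of_range (P := ProjSpace N A)
    (a := fun x : {x : ProjSpace N (IsLocalRing.ResidueField A) | red I ≤ idl x} => sp A N x.1)
    (b := fun y => i ((i ≫ ProjSpace.toSpec N A).fiberι (cpt A) y))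
    ((sp A N).isClosedEmbedding.isInducing.comp Topology.IsInducing.subtypeVal)
    (i.isClosedEmbedding.isInducing.comp
      ((i ≫ ProjSpace.toSpec N A).fiberι (cpt A)).isEmbedding.isInducing) ?_
  rintro _ ⟨x, rfl⟩
  have h1 : sp A N x.1 ∈ Set.range (zmap hI) := by
    rw [mem_range_zmap_iff, le_idl_sp_iff]
    exact x.2
  obtain ⟨z, hz⟩ := h1
  have h2 : i (e.inv z) = sp A N x.1 := by
    rw [← he, ← hz]
    change (e.inv ≫ e.hom ≫ zmap hI) z = _
    rw [e.inv_hom_id_assoc]
  have h3 : e.inv z ∈ Set.range ((i ≫ ProjSpace.toSpec N A).fiberι (cpt A)) := by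
    rw [Scheme.Hom.range_fiberι]
    change ProjSpace.toSpec N A (i (e.inv z)) = cpt A
    rw [h2]
    exact toSpec_sp x.1
  obtain ⟨y, hy⟩ := h3
  exact ⟨y, (congrArg i hy).trans h2⟩

theorem dim_fiber_le {J : Ideal (MvPolynomial (Fin (N + 1)) A)}
    (hJ : J.IsHomogeneous (polyGrading N A)) :
    topologicalKrullDim ((zmap hJ ≫ ProjSpace.toSpec N A).fiber (cpt A)) ≤
      topologicalKrullDim {x : ProjSpace N (IsLocalRing.ResidueField A) | red J ≤ idl x} := by
  haveI := isClosedImmersion_sp (A := A) (N := N)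
  refine dim_le_of_range (P := ProjSpace N A)
    (b := fun x : {x : ProjSpace N (IsLocalRing.ResidueField A) | red J ≤ idl x} => sp A N x.1)
    (a := fun y => zmap hJ ((zmap hJ ≫ ProjSpace.toSpec N A).fiberι (cpt A) y))
    ((zmap hJ).isClosedEmbedding.isInducing.comp
      ((zmap hJ ≫ ProjSpace.toSpec N A).fiberι (cpt A)).isEmbedding.isInducing)
    ((sp A N).isClosedEmbedding.isInducing.comp Topology.IsInducing.subtypeVal) ?_
  rintro _ ⟨y, rfl⟩
  set w := zmap hJ ((zmap hJ ≫ ProjSpace.toSpec N A).fiberι (cpt A) y) with hw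
  have h1 : J ≤ idl w := (mem_range_zmap_iff hJ w).mp ⟨_, rfl⟩
  have h2 : w ∈ Set.range (sp A N) := by
    rw [range_sp]
    have : (zmap hJ ≫ ProjSpace.toSpec N A).fiberι (cpt A) y ∈
        Set.range ((zmap hJ ≫ ProjSpace.toSpec N A).fiberι (cpt A)) := ⟨y, rfl⟩
    rw [Scheme.Hom.range_fiberι] at this
    exact this
  obtain ⟨x, hx⟩ := h2
  refine ⟨⟨x, ?_⟩, hx⟩
  rw [← hx, le_idl_sp_iff] at h1
  exact h1

/-- The theorem for a closed subscheme of `P^N_A`. -/
theorem main [IsNoetherianRing A] (n : ℕ) {X : Scheme.{u}} (i : X ⟶ ProjSpace N A)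
    [IsClosedImmersion i]
    (hdim : topologicalKrullDim ((i ≫ ProjSpace.toSpec N A).fiber (cpt A)) ≤ n) :
    ∃ (Z : Scheme.{u}) (j : Z ⟶ ProjSpace N A) (g : X ⟶ Z), IsClosedImmersion j ∧
      IsClosedImmersion g ∧ g ≫ j = i ∧ Flat (j ≫ ProjSpace.toSpec N A) ∧
      ∀ s : ↥(Spec (CommRingCat.of A)),
        topologicalKrullDim ↥((j ≫ ProjSpace.toSpec N A).fiber s) ≤ n := by
  obtain ⟨I, hI, e, he⟩ := exists_ideal i
  have hht := le_height (red I) (red_isHomogeneous hI) n ((dim_red_le i hI e he).trans hdim)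
  obtain ⟨F, a, ha, hF, hFI, hFh⟩ := Forms.exists_forms (IsLocalRing.residue A) I hI (N - n)
    (by omega) hht (N - n) le_rfl
  set J : Ideal (MvPolynomial (Fin (N + 1)) A) := Ideal.span (Set.range F) with hJdef
  have hJ : J.IsHomogeneous (polyGrading N A) := by
    apply Ideal.homogeneous_span
    rintro _ ⟨j, rfl⟩
    exact ⟨a j, (mem_homogeneousSubmodule _ _).mpr (hF j)⟩
  have hJI : J ≤ I := by
    rw [hJdef, Ideal.span_le]
    rintro _ ⟨j, rfl⟩
    exact hFI j
  have hredJ : red J = Ideal.span (Set.range fun j =>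
      MvPolynomial.map (IsLocalRing.residue A) (F j)) := by
    rw [red, hJdef, Ideal.map_span, ← Set.range_comp]
    rfl
  obtain ⟨g, hg⟩ := exists_factor hJ hI hJI
  have hfac : (e.hom ≫ g) ≫ zmap hJ = i := by rw [Category.assoc, hg, he]
  have hgcl : IsClosedImmersion (e.hom ≫ g) := by
    haveI : IsClosedImmersion ((e.hom ≫ g) ≫ zmap hJ) := by
      rw [hfac]
      infer_instance
    exact IsClosedImmersion.of_comp (e.hom ≫ g) (zmap hJ)
  have hfree := GrFree.free_gr (N - n) F a hF
    (fun c f hf => Groth.Agent.Lefpen.H728.RegSeq.mem_of_mul_mem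
      (fun j => MvPolynomial.map (IsLocalRing.residue A) (F j)) a ha (fun j => (hF j).map _)
      hFh c f hf)
  have hflat : Flat (zmap hJ ≫ ProjSpace.toSpec N A) :=
    flat_zmap hJ (fun d => by
      haveI := hfree d
      infer_instance)
  have hproper : IsProper (zmap hJ ≫ ProjSpace.toSpec N A) := by
    haveI := Groth.Agent.Ega3B.ProjProper.isProper_toSpec N A
    infer_instance
  have hcl : topologicalKrullDim ((zmap hJ ≫ ProjSpace.toSpec N A).fiber (cpt A)) ≤ n := by
    refine (dim_fiber_le hJ).trans ?_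
    rw [← hredJ] at hFh
    refine (dim_le (red J) (N - n) (Nat.sub_le _ _) hFh).trans ?_
    exact_mod_cast (by omega : N - (N - n) ≤ n)
  refine ⟨ZS hJ, zmap hJ, e.hom ≫ g, inferInstance, hgcl, hfac, hflat, fun s => ?_⟩
  have hopen := Groth.Agent.S0403.result (zmap hJ ≫ ProjSpace.toSpec N A) n
  have hspec : s ⤳ cpt A := IsLocalRing.specializes_closedPoint (R := A) s
  exact hspec.mem_open hopen hcl

end K549.FlatThick
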