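import Mathlib

/-!
# Homogeneous prime avoidance
-/

set_option autoImplicit false
universe u

namespace K549.HomAvoid

variable {R A : Type*} [CommRing R] [CommRing A] [Algebra R A] (𝒜 : ℕ → Submodule R A)
  [GradedAlgebra 𝒜]

/-- A homogeneous element of positive degree of an ideal avoiding finitely many primes. -/
theorem exists_homogeneous_notMem (I : Ideal A) (S : Finset (Ideal A))
    (hp : ∀ p ∈ S, p.IsPrime) (hI : ∀ p ∈ S, ∃ d : ℕ, 0 < d ∧ ∃ f ∈ 𝒜 d, f ∈ I ∧ f ∉ p) :
    ∃ d : ℕ, 0 < d ∧ ∃ f ∈ 𝒜 d, f ∈ I ∧ ∀ p ∈ S, f ∉ p := by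
  classical
  induction hn : S.card using Nat.strong_induction_on generalizing S with
  | _ n ih =>
  by_cases h1 : ∃ p ∈ S, ∃ q ∈ S, q ≠ p ∧ ∀ d : ℕ, ∀ f ∈ 𝒜 d, f ∈ q → f ∈ p
  · obtain ⟨p, hpS, q, hqS, hqp, hqle⟩ := h1
    obtain ⟨d, hd, f, hfd, hfI, hf⟩ := ih (S.erase q).card (by
      rw [← hn]
      exact Finset.card_erase_lt_of_mem hqS) (S.erase q)
      (fun p' hp' => hp p' (Finset.mem_of_mem_erase hp'))
      (fun p' hp' => hI p' (Finset.mem_of_mem_erase hp')) rfl
    refine ⟨d, hd, f, hfd, hfI, fun p' hp' => ?_⟩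
    by_cases h : p' = q
    · subst h
      intro hfq
      exact hf p (Finset.mem_erase.mpr ⟨fun h => hqp h.symm, hpS⟩) (hqle d f hfd hfq)
    · exact hf p' (Finset.mem_erase.mpr ⟨h, hp'⟩)
  · push Not at h1
    rcases S.eq_empty_or_nonempty with rfl | ⟨p, hpS⟩
    · refine ⟨1, one_pos, 0, zero_mem _, zero_mem _, fun p hp' => ?_⟩
      simp at hp'
    · obtain ⟨d, hd, f, hfd, hfI, hf⟩ := ih (S.erase p).card (by
        rw [← hn]
        exact Finset.card_erase_lt_of_mem hpS) (S.erase p)
        (fun p' hp' => hp p' (Finset.mem_of_mem_erase hp'))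
        (fun p' hp' => hI p' (Finset.mem_of_mem_erase hp')) rfl
      by_cases hfp : f ∈ p
      · -- an element of all the other primes, outside `p`
        obtain ⟨e₀, he₀, h₀, hh₀, hh₀I, hh₀p⟩ := hI p hpS
        haveI := hp p hpS
        have h2 : ∀ q ∈ S.erase p, ∃ (e : ℕ) (x : A), x ∈ 𝒜 e ∧ x ∈ q ∧ x ∉ p := by
          intro q hq
          obtain ⟨hqp, hqS⟩ := Finset.mem_erase.mp hq
          obtain ⟨e, x, hx1, hx2, hx3⟩ := h1 p hpS q hqS hqp
          exact ⟨e, x, hx1, hx2, hx3⟩
        choose! e x hx using h2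
        let g : A := h₀ * ∏ q ∈ S.erase p, x q
        have hgd : g ∈ 𝒜 (e₀ + ∑ q ∈ S.erase p, e q) :=
          SetLike.mul_mem_graded hh₀ (SetLike.prod_mem_graded _ _ _ fun q hq => (hx q hq).1)
        have hgI : g ∈ I := Ideal.mul_mem_right _ _ hh₀I
        have hgp : g ∉ p := by
          intro h
          rcases (hp p hpS).mem_or_mem h with h | h
          · exact hh₀p h
          · rw [Ideal.IsPrime.prod_mem_iff] at h
            obtain ⟨q, hq, hxq⟩ := h
            exact (hx q hq).2.2 hxq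
        have hgq : ∀ q ∈ S.erase p, g ∈ q := fun q hq =>
          Ideal.mul_mem_left _ _ (Ideal.mem_of_dvd _ (Finset.dvd_prod_of_mem _ hq) (hx q hq).2.1)
        set e' : ℕ := e₀ + ∑ q ∈ S.erase p, e q with he'
        have he'pos : 0 < e' := by omega
        refine ⟨e' * d, Nat.mul_pos he'pos hd, f ^ e' + g ^ d, ?_, ?_, ?_⟩
        · refine add_mem ?_ ?_
          · have := SetLike.pow_mem_graded e' hfd
            rwa [smul_eq_mul] at this
          · have := SetLike.pow_mem_graded d hgd
            rwa [smul_eq_mul, mul_comm] at this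
        · exact add_mem (Ideal.pow_mem_of_mem _ hfI _ he'pos) (Ideal.pow_mem_of_mem _ hgI _ hd)
        · intro q hq hmem
          by_cases hqp : q = p
          · subst hqp
            have h3 : g ^ d ∈ q := by
              have := sub_mem hmem (Ideal.pow_mem_of_mem _ hfp _ he'pos)
              rwa [add_sub_cancel_left] at this
            exact hgp ((hp q hq).mem_of_pow_mem _ h3)
          · have hq' := Finset.mem_erase.mpr ⟨hqp, hq⟩
            have h3 : f ^ e' ∈ q := by
              have := sub_mem hmem (Ideal.pow_mem_of_mem _ (hgq q hq') _ hd)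
              rwa [add_sub_cancel_right] at this
            exact hf q hq' ((hp q hq).mem_of_pow_mem _ h3)
      · refine ⟨d, hd, f, hfd, hfI, fun q hq => ?_⟩
        by_cases hqp : q = p
        · subst hqp
          exact hfp
        · exact hf q (Finset.mem_erase.mpr ⟨hqp, hq⟩)

end K549.HomAvoid
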