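import Groth.Agent.S0385
import Groth.Agent.CycA.ClosurePt
import Groth.Agent.Sga4h.H923.DevGeo
import Mathlib.AlgebraicGeometry.Noetherian
import Mathlib.RingTheory.Algebraic.Integral
import Mathlib.RingTheory.SurjectiveOnStalks

/-!
# Finite integral models of finite extensions of residue fields

`exists_model`: `X` Noetherian, `x : X` and `κ(x) → L` a finite extension.  Then there are an integral scheme `Y'`
finite over `X` and a preimmersion `Spec L ⟶ Y'` onto its generic point, over `X`.
-/

set_option autoImplicit false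
universe u

open CategoryTheory CategoryTheory.Limits AlgebraicGeometry Opposite TopologicalSpace

namespace K549.Model

/-- A finite extension `L` of a field of fractions `K` of images of elements of `A` is a field of fractions of a
finite `A`-algebra. -/
theorem exists_alg (A K L : Type u) [CommRing A] [Field K] [Field L] (a : A →+* K) (k : K →+* L)
    (hk : k.Finite) (hK : ∀ z : K, ∃ p q : A, a q ≠ 0 ∧ a q * z = a p) :
    ∃ (B : Type u) (_ : CommRing B) (_ : IsDomain B) (φ : A →+* B) (ι : B →+* L), φ.Finite ∧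
      Function.Injective ι ∧ ι.comp φ = k.comp a ∧ ∀ l : L, ∃ b c : B, IsUnit (ι c) ∧ ι c * l = ι b := by
  classical
  let _ : Algebra K L := k.toAlgebra
  have hfin : Module.Finite K L := hk
  have hdom : IsDomain (A ⧸ RingHom.ker a) :=
    have : (RingHom.ker a).IsPrime := RingHom.ker_isPrime a
    inferInstance
  let _ : Algebra (A ⧸ RingHom.ker a) K := (RingHom.kerLift a).toAlgebra
  let _ : Algebra (A ⧸ RingHom.ker a) L := (k.comp (RingHom.kerLift a)).toAlgebra
  have : IsScalarTower (A ⧸ RingHom.ker a) K L := IsScalarTower.of_algebraMap_eq fun _ => rfl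
  have hf : FaithfulSMul (A ⧸ RingHom.ker a) K :=
    (faithfulSMul_iff_algebraMap_injective _ _).2 (RingHom.kerLift_injective a)
  have hfr : IsFractionRing (A ⧸ RingHom.ker a) K := by
    refine IsFractionRing.of_field (A ⧸ RingHom.ker a) K fun z => ?_
    obtain ⟨p, q, hq, h⟩ := hK z
    refine ⟨Ideal.Quotient.mk _ p, Ideal.Quotient.mk _ q, ?_⟩
    change z = a p / a q
    rw [eq_div_iff hq, mul_comm]
    exact h
  have halg : Algebra.IsAlgebraic K L := inferInstance
  have halg' : Algebra.IsAlgebraic (A ⧸ RingHom.ker a) L :=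
    (IsFractionRing.comap_isAlgebraic_iff (A := A ⧸ RingHom.ker a) (K := K) (C := L)).2 halg
  obtain ⟨S, hS⟩ := hfin.fg_top
  obtain ⟨y, hy, hyS⟩ := Algebra.IsAlgebraic.exists_integral_multiples (R := A ⧸ RingHom.ker a) S
  let S' : Set L := (fun z => y • z) '' (S : Set L)
  let B := Algebra.adjoin (A ⧸ RingHom.ker a) S'
  have hBfin : Module.Finite (A ⧸ RingHom.ker a) B :=
    Algebra.finite_adjoin_of_finite_of_isIntegral (S.finite_toSet.image _) (by
      rintro _ ⟨z, hz, rfl⟩
      exact hyS z hz)
  have hinj : Function.Injective (algebraMap (A ⧸ RingHom.ker a) L) :=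
    k.injective.comp (RingHom.kerLift_injective a)
  refine ⟨B, inferInstance, inferInstance, (algebraMap (A ⧸ RingHom.ker a) B).comp
    (Ideal.Quotient.mk (RingHom.ker a)), algebraMap B L, ?_, Subtype.val_injective, ?_, ?_⟩
  · exact RingHom.Finite.comp (RingHom.finite_algebraMap.2 hBfin)
      (RingHom.Finite.of_surjective _ Ideal.Quotient.mk_surjective)
  · ext z
    rfl
  · intro l
    have hl : l ∈ Submodule.span K (S : Set L) := by rw [hS]; trivial
    suffices h : ∃ b c : B, (c : L) ≠ 0 ∧ (c : L) * l = b by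
      obtain ⟨b, c, h1, h2⟩ := h
      exact ⟨b, c, isUnit_iff_ne_zero.2 h1, h2⟩
    induction hl using Submodule.span_induction with
    | mem z hz =>
      refine ⟨⟨y • z, Algebra.subset_adjoin ⟨z, hz, rfl⟩⟩, algebraMap _ B y, ?_, ?_⟩
      · exact fun h => hy (hinj (h.trans (map_zero _).symm))
      · exact (Algebra.smul_def y z).symm
    | zero => exact ⟨0, 1, one_ne_zero, by simp⟩
    | add z w _ _ hz hw =>
      obtain ⟨b, c, h1, h2⟩ := hz
      obtain ⟨b', c', h1', h2'⟩ := hw
      refine ⟨c' * b + c * b', c * c', mul_ne_zero h1 h1', ?_⟩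
      push_cast
      rw [← h2, ← h2']
      ring
    | smul r z _ hz =>
      obtain ⟨b, c, h1, h2⟩ := hz
      obtain ⟨p, q, hq, h⟩ := hK r
      refine ⟨algebraMap _ B (Ideal.Quotient.mk (RingHom.ker a) p) * b,
        algebraMap _ B (Ideal.Quotient.mk (RingHom.ker a) q) * c, mul_ne_zero ?_ h1, ?_⟩
      · intro h0
        exact hq (k.injective (h0.trans (map_zero k).symm))
      · push_cast
        rw [← h2, Algebra.smul_def]
        have h3 : k (a q) * k r = k (a p) := by rw [← map_mul, h]
        change k (a q) * (c : L) * (k r * z) = k (a p) * ((c : L) * z)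
        rw [← h3]
        ring

theorem isUnit_of_mem {X : Scheme.{u}} (x : X) (U : X.Opens) (hU : IsAffineOpen U) (hx : x ∈ U)
    (z : X.residueField x) :
    ∃ p q : Γ(X, U), (X.presheaf.germ U x hx ≫ X.residue x).hom q ≠ 0 ∧
      (X.presheaf.germ U x hx ≫ X.residue x).hom q * z =
        (X.presheaf.germ U x hx ≫ X.residue x).hom p := by
  obtain ⟨z, rfl⟩ := X.residue_surjective x z
  let _ := X.presheaf.algebra_section_stalk ⟨x, hx⟩
  have := hU.isLocalization_stalk ⟨x, hx⟩
  obtain ⟨⟨p, q⟩, h⟩ := IsLocalization.surj (hU.primeIdealOf ⟨x, hx⟩).asIdeal.primeCompl z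
  refine ⟨p, q, ?_, ?_⟩
  · have h1 : IsUnit (X.presheaf.germ U x hx q.1) :=
      IsLocalization.map_units (X.presheaf.stalk x) q
    have h2 : IsUnit (X.residue x (X.presheaf.germ U x hx q.1)) := h1.map _
    exact h2.ne_zero
  · have h3 : X.presheaf.germ U x hx q.1 * z = X.presheaf.germ U x hx p := by
      rw [mul_comm]
      exact h
    have h4 := congrArg (X.residue x) h3
    rw [map_mul] at h4
    exact h4

/-- A finite integral model of a finite extension of a residue field. -/
theorem exists_model {X : Scheme.{u}} [IsNoetherian X] (x : X) (L : Type u) [Field L]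
    (ψ : X.residueField x ⟶ CommRingCat.of L) (hψ : ψ.hom.Finite) :
    ∃ (Y' : Scheme.{u}) (π : Y' ⟶ X) (_ : IsFinite π) (_ : IsIntegral Y')
      (σ : Spec (CommRingCat.of L) ⟶ Y'), IsPreimmersion σ ∧ Set.range σ = {genericPoint Y'} ∧
        σ ≫ π = Spec.map ψ ≫ X.fromSpecResidueField x := by
  obtain ⟨U, hU₀, hx, -⟩ := exists_isAffineOpen_mem_and_subset (x := x) (U := (⊤ : X.Opens)) trivial
  have hU : IsAffineOpen U := hU₀
  obtain ⟨B, _, _, φ, ι, hφ, hι, hcomp, hdiv⟩ := exists_alg Γ(X, U) (X.residueField x) L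
    (X.presheaf.germ U x hx ≫ X.residue x).hom ψ.hom hψ (isUnit_of_mem x U hU hx)
  let f : Spec (CommRingCat.of B) ⟶ X := Spec.map (CommRingCat.ofHom φ) ≫ hU.fromSpec
  let h' : Spec (CommRingCat.of L) ⟶ Spec (CommRingCat.of B) := Spec.map (CommRingCat.ofHom ι)
  have hh : h' ≫ f = Spec.map ψ ≫ X.fromSpecResidueField x := by
    have h1 : X.fromSpecResidueField x =
        Spec.map (X.presheaf.germ U x hx ≫ X.residue x) ≫ hU.fromSpec := by
      rw [Spec.map_comp, Category.assoc]
      change Spec.map (X.residue x) ≫ X.fromSpecStalk x = _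
      rw [← hU.fromSpecStalk_eq_fromSpecStalk hx]
      rfl
    rw [h1]
    change Spec.map _ ≫ Spec.map _ ≫ _ = _
    rw [← Category.assoc, ← Category.assoc, ← Spec.map_comp, ← Spec.map_comp]
    congr 2
    ext1
    exact hcomp
  have hf1 : IsFinite (Spec.map (CommRingCat.ofHom φ)) := by
    rw [IsFinite.SpecMap_iff]
    exact hφ
  have hqc : QuasiCompact hU.fromSpec := by
    have : NoetherianSpace (Spec (Γ(X, U))) :=
      hU.fromSpec.isOpenEmbedding.isInducing.noetherianSpace
    infer_instance
  obtain ⟨T, j, π, hj, -, hπ, hjπ⟩ := Groth.Agent.S0385.result f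
  obtain ⟨Z, i, hi, hZ, hiZ, hir⟩ :=
    Groth.Agent.CycA.ClosurePt.exists_closure_subscheme ((h' ≫ j) (genericPoint (Spec (CommRingCat.of L))))
  obtain ⟨σ, hσ⟩ := Groth.Agent.Sga4h.H923.DevGeo.exists_lift i (h' ≫ j) ⟨_, hiZ⟩
  have hh' : IsPreimmersion h' := by
    refine IsPreimmersion.mk_SpecMap ?_ (RingHom.surjectiveOnStalks_of_exists_div hdiv)
    exact Topology.IsEmbedding.of_subsingleton _
  have hpre : IsPreimmersion (σ ≫ i) := by
    rw [hσ]
    infer_instance
  have hσp : IsPreimmersion σ := IsPreimmersion.of_comp σ i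
  have hpt : ∀ z : Spec (CommRingCat.of L), σ z = genericPoint Z := by
    intro z
    apply i.isClosedEmbedding.injective
    rw [← Scheme.Hom.comp_apply, hσ, hiZ]
    congr 1
    exact Subsingleton.elim _ _
  refine ⟨Z, i ≫ π, inferInstance, hZ, σ, hσp, ?_, ?_⟩
  · ext y
    rw [Set.mem_singleton_iff]
    constructor
    · rintro ⟨z, rfl⟩
      exact hpt z
    · rintro rfl
      exact ⟨genericPoint _, hpt _⟩
  · rw [← Category.assoc, hσ, Category.assoc, hjπ, hh]

end K549.Model
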