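import Mathlib

/-!
# Isolating a closed point of a one-dimensional Noetherian scheme by one function
-/

set_option autoImplicit false
universe u

open CategoryTheory CategoryTheory.Limits AlgebraicGeometry Opposite TopologicalSpace

namespace K549.OnePt

/-- In a Noetherian ring of dimension at most one, a closed set with dense complement is, near a
closed point, cut out by one function which vanishes only there. -/
theorem exists_basic {R : Type u} [CommRing R] [IsNoetherianRing R] (hdim : ringKrullDim R ≤ 1)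
    (m : PrimeSpectrum R) (hm : m.asIdeal.IsMaximal) (Z : Set (PrimeSpectrum R))
    (hZ : IsClosed Z) (hmZ : m ∈ Z) (hd : Dense Zᶜ) :
    ∃ h f : R, h ∉ m.asIdeal ∧ f ∈ m.asIdeal ∧
      ∀ p : PrimeSpectrum R, h ∉ p.asIdeal → (f ∈ p.asIdeal → p = m) ∧ (p ∈ Z → p = m) := by
  obtain ⟨I, rfl⟩ := (PrimeSpectrum.isClosed_iff_zeroLocus_ideal Z).mp hZ
  -- minimal primes are not in `V(I)`
  have hfin : (minimalPrimes R).Finite := minimalPrimes.finite_of_isNoetherianRing R
  have hmin : ∀ p ∈ minimalPrimes R, ¬ I ≤ p := by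
    intro p hp hIp
    haveI : p.IsPrime := hp.1.1
    -- an element outside `p` in all other minimal primes
    have hx : ∃ x : R, x ∉ p ∧ ∀ q ∈ minimalPrimes R, q ≠ p → x ∈ q := by
      have h1 : ∀ q ∈ minimalPrimes R, ∃ x : R, q ≠ p → (x ∈ q ∧ x ∉ p) := by
        intro q hq
        by_cases hqp : q = p
        · exact ⟨0, fun h => absurd hqp h⟩
        · have : ¬ q ≤ p := by
            intro hle
            apply hqp
            exact le_antisymm hle (hp.2 ⟨hq.1.1, bot_le⟩ hle)
          obtain ⟨x, hxq, hxp⟩ := Set.not_subset.mp this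
          exact ⟨x, fun _ => ⟨hxq, hxp⟩⟩
      choose! x hx using h1
      classical
      refine ⟨∏ q ∈ hfin.toFinset.filter (· ≠ p), x q, ?_, ?_⟩
      · intro h
        rw [Ideal.IsPrime.prod_mem_iff] at h
        obtain ⟨q, hq, hxq⟩ := h
        rw [Finset.mem_filter, Set.Finite.mem_toFinset] at hq
        exact (hx q hq.1 hq.2).2 hxq
      · intro q hq hqp
        have hq' : q ∈ hfin.toFinset.filter (· ≠ p) := by
          rw [Finset.mem_filter, Set.Finite.mem_toFinset]
          exact ⟨hq, hqp⟩
        exact Ideal.mem_of_dvd _ (Finset.dvd_prod_of_mem _ hq') (hx q hq hqp).1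
    obtain ⟨x, hxp, hx⟩ := hx
    have hop : IsOpen ((PrimeSpectrum.basicOpen x : Opens (PrimeSpectrum R)) : Set (PrimeSpectrum R)) :=
      (PrimeSpectrum.basicOpen x).isOpen
    obtain ⟨q, hq1, hq2⟩ := hd.inter_open_nonempty _ hop ⟨⟨p, inferInstance⟩, hxp⟩
    apply hq2
    rw [PrimeSpectrum.mem_zeroLocus]
    obtain ⟨q₀, hq₀, hle⟩ := Ideal.exists_minimalPrimes_le (I := ⊥) (J := q.asIdeal) bot_le
    have : q₀ = p := by
      by_contra hne
      exact hq1 (hle (hx q₀ hq₀ hne))
    exact fun a ha => hle (this ▸ hIp ha)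
  -- prime avoidance
  have hav : ∃ f ∈ I, ∀ p ∈ minimalPrimes R, f ∉ p := by
    by_contra hcon
    push Not at hcon
    have hsub : (I : Set R) ⊆ ⋃ p ∈ (↑hfin.toFinset : Set (Ideal R)), (p : Set R) := by
      intro f hf
      obtain ⟨p, hp, hfp⟩ := hcon f hf
      simp only [Set.mem_iUnion]
      exact ⟨p, by simpa using hp, hfp⟩
    rw [Ideal.subset_union_prime (f := fun p : Ideal R => p) ⊥ ⊥] at hsub
    · obtain ⟨p, hp, hle⟩ := hsub
      exact hmin p (by simpa using hp) hle
    · intro p hp _ _
      have : p ∈ minimalPrimes R := by simpa using hp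
      exact this.1.1
  obtain ⟨f, hfI, hf⟩ := hav
  have hfm : f ∈ m.asIdeal := hmZ hfI
  -- primes over `f` are maximal
  have hmax : ∀ p : Ideal R, p.IsPrime → f ∈ p → p.IsMaximal := by
    intro p hp hfp
    obtain ⟨q, hq, hqp⟩ := Ideal.exists_minimalPrimes_le (I := ⊥) (J := p) bot_le
    haveI : q.IsPrime := hq.1.1
    have hlt : q < p := lt_of_le_of_ne hqp (by rintro rfl; exact hf _ hq hfp)
    obtain ⟨M, hM, hpM⟩ := Ideal.exists_le_maximal p hp.ne_top
    by_contra hcon
    have hlt2 : p < M := lt_of_le_of_ne hpM (by rintro rfl; exact hcon hM)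
    have h2 : (2 : WithBot ℕ∞) ≤ ringKrullDim R := by
      let s : LTSeries (PrimeSpectrum R) :=
        ⟨2, ![⟨q, inferInstance⟩, ⟨p, hp⟩, ⟨M, hM.isPrime⟩], by
          intro i
          fin_cases i
          · exact hlt
          · exact hlt2⟩
      exact Order.LTSeries.length_le_krullDim s
    have := h2.trans hdim
    exact absurd this (by decide)
  -- finiteness of `V(f)`
  have hfin2 : {p : PrimeSpectrum R | f ∈ p.asIdeal}.Finite := by
    have h1 : ((Ideal.span {f}).minimalPrimes).Finite :=
      Ideal.finite_minimalPrimes_of_isNoetherianRing R _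
    refine Set.Finite.of_injOn (f := fun p : PrimeSpectrum R => p.asIdeal) ?_ ?_ h1
    · intro p hp
      refine ⟨⟨p.isPrime, by rw [Ideal.span_singleton_le_iff_mem]; exact hp⟩, ?_⟩
      rintro q ⟨hq, hfq⟩ hqp
      rw [Ideal.span_singleton_le_iff_mem] at hfq
      exact ((hmax q hq hfq).eq_of_le p.isPrime.ne_top hqp).ge
    · intro p _ q _ h
      exact PrimeSpectrum.ext h
  -- the denominator
  have h1 : ∀ p ∈ {p : PrimeSpectrum R | f ∈ p.asIdeal}, ∃ x : R, p ≠ m →
      (x ∈ p.asIdeal ∧ x ∉ m.asIdeal) := by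
    intro p hp
    by_cases hpm : p = m
    · exact ⟨0, fun h => absurd hpm h⟩
    · have : ¬ p.asIdeal ≤ m.asIdeal := by
        intro hle
        apply hpm
        exact PrimeSpectrum.ext ((hmax p.asIdeal p.isPrime hp).eq_of_le hm.ne_top hle)
      obtain ⟨x, hxq, hxp⟩ := Set.not_subset.mp this
      exact ⟨x, fun _ => ⟨hxq, hxp⟩⟩
  choose! x hx using h1
  classical
  refine ⟨∏ q ∈ hfin2.toFinset.filter (· ≠ m), x q, f, ?_, hfm, ?_⟩
  · intro h
    rw [Ideal.IsPrime.prod_mem_iff] at h
    obtain ⟨q, hq, hxq⟩ := h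
    rw [Finset.mem_filter, Set.Finite.mem_toFinset] at hq
    exact (hx q hq.1 hq.2).2 hxq
  · intro p hp
    have key : f ∈ p.asIdeal → p = m := by
      intro hfp
      by_contra hpm
      apply hp
      have hq' : p ∈ hfin2.toFinset.filter (· ≠ m) := by
        rw [Finset.mem_filter, Set.Finite.mem_toFinset]
        exact ⟨hfp, hpm⟩
      exact Ideal.mem_of_dvd _ (Finset.dvd_prod_of_mem _ hq') (hx p hfp hpm).1
    exact ⟨key, fun hpZ => key (hpZ hfI)⟩

/-- Connected components are open when there are finitely many irreducible components. -/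
theorem isOpen_connectedComponent {α : Type*} [TopologicalSpace α]
    (h : (irreducibleComponents α).Finite) (x : α) : IsOpen (connectedComponent x) := by
  have : (connectedComponent x)ᶜ =
      ⋃ Z ∈ {Z ∈ irreducibleComponents α | Z ⊆ (connectedComponent x)ᶜ}, Z := by
    apply Set.Subset.antisymm
    · intro y hy
      simp only [Set.mem_iUnion]
      refine ⟨irreducibleComponent y, ⟨irreducibleComponent_mem_irreducibleComponents y, ?_⟩,
        mem_irreducibleComponent⟩
      intro z hz hzx
      apply hy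
      have h1 : connectedComponent x = connectedComponent z := connectedComponent_eq hzx
      rw [h1]
      exact (isIrreducible_irreducibleComponent.isPreirreducible.isPreconnected).subset_connectedComponent
        hz mem_irreducibleComponent
    · exact Set.iUnion₂_subset fun Z hZ ↦ hZ.2
  rw [← isClosed_compl_iff, this]
  exact (h.subset (Set.sep_subset _ _)).isClosed_biUnion
    fun Z hZ ↦ isClosed_of_mem_irreducibleComponents Z hZ.1

open Topology in
/-- The topological construction of a two-element cover. -/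
theorem exists_cover {T T₀ : Type*} [TopologicalSpace T] [TopologicalSpace T₀]
    [NoetherianSpace T] {i : T₀ → T} (hi : IsClosedEmbedding i)
    (hb : ∀ Y : Set T, IsClosed Y → Y.Nonempty → _root_.IsConnected Y →
      (Y ∩ Set.range i).Nonempty ∧ _root_.IsConnected (Y ∩ Set.range i))
    (U O : Set T) (hU : IsOpen U) (hO : IsOpen O) (hOU : O ⊆ U) (z : T₀) (hz : IsClosed {z})
    (hzU : i z ∈ U) (hzO : i z ∉ O) (hz1 : ∀ y, i y ∈ U → i y ∉ O → y = z) :
    ∃ A B : Set T, IsOpen A ∧ IsOpen B ∧ A ∪ B = Set.univ ∧ A ∩ B = O ∧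
      (∀ y, y ≠ z → i y ∈ A) ∧ (∀ y, i y ∈ U → i y ∈ B) := by
  set F : Set T := U \ O with hF
  set F' : Set T := closure F with hF'
  have hFF : F' ∩ U = F := by
    apply Set.Subset.antisymm
    · rintro y ⟨hy1, hyU⟩
      refine ⟨hyU, fun hyO => ?_⟩
      obtain ⟨w, hwO, hwF⟩ := mem_closure_iff.mp hy1 O hO hyO
      exact hwF.2 hwO
    · exact fun y hy => ⟨subset_closure hy, hy.1⟩
  have hzF : i z ∈ F' := subset_closure ⟨hzU, hzO⟩
  -- the connected component
  let c : Set F' := connectedComponent (⟨i z, hzF⟩ : F')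
  haveI : NoetherianSpace F' := inferInstance
  have hcO : IsOpen c := isOpen_connectedComponent NoetherianSpace.finite_irreducibleComponents _
  have hcC : IsClosed c := isClosed_connectedComponent
  let C : Set T := Subtype.val '' c
  have hC : IsClosed C := isClosed_closure.isClosedEmbedding_subtypeVal.isClosedMap _ hcC
  have hC' : IsClosed (F' \ C) := by
    have : F' \ C = Subtype.val '' cᶜ := by
      ext y
      constructor
      · rintro ⟨hy1, hy2⟩
        exact ⟨⟨y, hy1⟩, fun h => hy2 ⟨_, h, rfl⟩, rfl⟩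
      · rintro ⟨w, hw, rfl⟩
        refine ⟨w.2, ?_⟩
        rintro ⟨w', hw', hww⟩
        rw [Subtype.ext hww] at hw'
        exact hw hw'
    rw [this]
    exact isClosed_closure.isClosedEmbedding_subtypeVal.isClosedMap _ hcO.isClosed_compl
  have hCF : C ⊆ F' := by
    rintro _ ⟨w, _, rfl⟩
    exact w.2
  have hzC : i z ∈ C := ⟨⟨i z, hzF⟩, mem_connectedComponent, rfl⟩
  have hconn : _root_.IsConnected C :=
    isConnected_connectedComponent.image _ continuous_subtype_val.continuousOn
  -- `C ∩ X₀ = {z}`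
  have hCz : ∀ y, i y ∈ C → y = z := by
    obtain ⟨-, h2⟩ := hb C hC ⟨_, hzC⟩ hconn
    have h3 : IsPreconnected (i ⁻¹' C) := by
      rw [← hi.isInducing.isPreconnected_image, Set.image_preimage_eq_inter_range]
      exact h2.isPreconnected
    intro y hy
    by_contra hyz
    obtain ⟨x, hx1, hx2, hx3⟩ := h3 (i ⁻¹' U) {z}ᶜ (hU.preimage hi.continuous) hz.isOpen_compl
      (by
        intro x hx
        by_cases hxz : x = z
        · left
          rw [hxz]
          exact hzU
        · right
          exact hxz) ⟨z, hzC, hzU⟩ ⟨y, hy, hyz⟩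
    apply hx3
    have : i x ∈ F := hFF ▸ ⟨hCF hx1, hx2⟩
    exact hz1 x this.1 this.2
  -- `C ⊂ U`
  have hCU : C ⊆ U := by
    intro y hy
    have hcl : closure {y} ⊆ C := by
      rw [hC.closure_subset_iff]
      simpa using hy
    obtain ⟨⟨w, hw1, x, rfl⟩, -⟩ := hb (closure {y}) isClosed_closure ⟨y, subset_closure rfl⟩
      (isConnected_singleton.closure)
    have := hCz x (hcl hw1)
    subst this
    have h4 : y ⤳ i x := by
      rw [specializes_iff_mem_closure]
      exact hw1
    exact h4.mem_open hU hzU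
  refine ⟨Cᶜ, U \ (F' \ C), hC.isOpen_compl, hU.sdiff hC', ?_, ?_, ?_, ?_⟩
  · rw [Set.eq_univ_iff_forall]
    intro y
    by_cases hy : y ∈ C
    · right
      exact ⟨hCU hy, fun h => h.2 hy⟩
    · left
      exact hy
  · ext y
    constructor
    · rintro ⟨hyC, hyU, hy⟩
      by_contra hyO
      exact hy ⟨subset_closure ⟨hyU, hyO⟩, hyC⟩
    · intro hyO
      have hyF : y ∉ F' := by
        intro h
        have : y ∈ F := hFF ▸ ⟨h, hOU hyO⟩
        exact this.2 hyO
      exact ⟨fun h => hyF (hCF h), hOU hyO, fun h => hyF h.1⟩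
  · intro y hyz hyC
    exact hyz (hCz y hyC)
  · intro y hyU
    refine ⟨hyU, ?_⟩
    rintro ⟨h1, h2⟩
    have : i y ∈ F := hFF ▸ ⟨h1, hyU⟩
    have := hz1 y this.1 this.2
    subst this
    exact h2 hzC

end K549.OnePt
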