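import Groth.Agent.EtCd.K549.PicGlue
import Groth.Agent.EtCd.K549.OnePt

/-!
# Surjectivity of `Pic X → Pic X₀` for a closed subscheme of dimension at most one
-/

set_option autoImplicit false
universe u

open CategoryTheory CategoryTheory.Limits AlgebraicGeometry Opposite TopologicalSpace

namespace K549.PicSurj

open Groth.Agent
open Groth.Agent.Grpsch.PicGrp
open Groth.Agent.Fdesc.LocGen hiding tmul smul_tmul tmul_smul
open K549.PicGlue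

variable {X X₀ : Scheme.{u}}

/-- An affine open as the spectrum of its sections. -/
theorem exists_chart {Y : Scheme.{u}} {V : Y.Opens} (hV : IsAffineOpen V) :
    ∃ φ : PrimeSpectrum Γ(Y, V) → Y, Topology.IsOpenEmbedding φ ∧ Set.range φ = V ∧
      ∀ (g : Γ(Y, V)) (p : PrimeSpectrum Γ(Y, V)), φ p ∈ Y.basicOpen g ↔ g ∉ p.asIdeal := by
  refine ⟨hV.fromSpec, hV.fromSpec.isOpenEmbedding, hV.range_fromSpec, ?_⟩
  intro g p
  change p ∈ hV.fromSpec ⁻¹ᵁ Y.basicOpen g ↔ _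
  rw [hV.fromSpec_preimage_basicOpen]
  rfl

/-- Near a closed point outside a dense open `W`, there is an affine open on which `W` is the
complement of the point and is cut out by one function. -/
theorem exists_opens (i : X₀ ⟶ X) [IsClosedImmersion i] [IsLocallyNoetherian X₀]
    (ha : topologicalKrullDim X₀ ≤ 1) (W : X₀.Opens) (hW : Dense (W : Set X₀)) (z : X₀)
    (hz : IsClosed ({z} : Set X₀)) (hzW : z ∉ W) (V₀ : X₀.Opens) (hzV : z ∈ V₀) :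
    ∃ (U : X.Opens) (_ : IsAffineOpen U) (f : Γ(X₀, i ⁻¹ᵁ U)),
      i ⁻¹ᵁ U ≤ V₀ ∧ z ∈ i ⁻¹ᵁ U ∧ z ∉ X₀.basicOpen f ∧
        ∀ y ∈ i ⁻¹ᵁ U, y ≠ z → y ∈ W ∧ y ∈ X₀.basicOpen f := by
  obtain ⟨U₀', hU₀', hU₀⟩ := i.isClosedEmbedding.isInducing.isOpen_iff.mp V₀.isOpen
  let U₀ : X.Opens := ⟨U₀', hU₀'⟩
  have hiU₀ : i ⁻¹ᵁ U₀ = V₀ := Opens.ext hU₀
  have hzU₀ : i z ∈ U₀ := by
    change z ∈ i ⁻¹ᵁ U₀
    rw [hiU₀]
    exact hzV
  obtain ⟨U₁, hU₁, hzU₁, hU₁₀⟩ := exists_isAffineOpen_mem_and_subset hzU₀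
  have hV₁ : IsAffineOpen (i ⁻¹ᵁ U₁) := hU₁.preimage i
  haveI : IsNoetherianRing Γ(X₀, i ⁻¹ᵁ U₁) :=
    IsLocallyNoetherian.component_noetherian ⟨_, hV₁⟩
  obtain ⟨φ, hφ, hφr, hmem⟩ := exists_chart hV₁
  have hrange : ∀ y ∈ i ⁻¹ᵁ U₁, ∃ p, φ p = y := by
    intro y hy
    have : y ∈ Set.range φ := by
      rw [hφr]
      exact hy
    exact this
  obtain ⟨m, hm⟩ := hrange z hzU₁
  have hdim : ringKrullDim Γ(X₀, i ⁻¹ᵁ U₁) ≤ 1 := by
    rw [← PrimeSpectrum.topologicalKrullDim_eq_ringKrullDim]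
    exact (hφ.isInducing.topologicalKrullDim_le).trans ha
  have hmmax : m.asIdeal.IsMaximal := by
    rw [← PrimeSpectrum.isClosed_singleton_iff_isMaximal]
    have : ({m} : Set (PrimeSpectrum Γ(X₀, i ⁻¹ᵁ U₁))) = φ ⁻¹' {z} := by
      ext p
      constructor
      · rintro rfl
        exact hm
      · intro hp
        exact hφ.injective (hp.trans hm.symm)
    rw [this]
    exact hz.preimage hφ.continuous
  obtain ⟨h, f, hhm, hfm, hp⟩ := OnePt.exists_basic hdim m hmmax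
    (φ ⁻¹' (W : Set X₀)ᶜ) (W.isOpen.isClosed_compl.preimage hφ.continuous)
    (by
      change φ m ∈ (W : Set X₀)ᶜ
      rw [hm]
      exact hzW)
    (by
      have : (φ ⁻¹' (W : Set X₀)ᶜ)ᶜ = φ ⁻¹' (W : Set X₀) := by
        rw [← Set.preimage_compl, compl_compl]
      rw [this]
      exact hW.preimage hφ.isOpenMap)
  obtain ⟨h', hh'⟩ := i.app_surjective U₁ hU₁ h
  have hU : i ⁻¹ᵁ (X.basicOpen h') = X₀.basicOpen h := by
    rw [Scheme.preimage_basicOpen, hh']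
  have hle : i ⁻¹ᵁ (X.basicOpen h') ≤ i ⁻¹ᵁ U₁ := i.preimage_mono (X.basicOpen_le h')
  have hbf : ∀ y ∈ i ⁻¹ᵁ (X.basicOpen h'), y ∈ X₀.basicOpen (ores hle f) ↔ y ∈ X₀.basicOpen f := by
    intro y hy
    have : X₀.basicOpen (ores hle f) = (i ⁻¹ᵁ X.basicOpen h') ⊓ X₀.basicOpen f :=
      X₀.basicOpen_res f (homOfLE hle).op
    rw [this]
    exact ⟨fun h => h.2, fun h => ⟨hy, h⟩⟩
  have hzU : z ∈ i ⁻¹ᵁ (X.basicOpen h') := by
    rw [hU, ← hm, hmem]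
    exact hhm
  refine ⟨X.basicOpen h', hU₁.basicOpen h', ores hle f, ?_, hzU, ?_, ?_⟩
  · refine hle.trans ((i.preimage_mono hU₁₀).trans hiU₀.le)
  · rw [hbf z hzU, ← hm, hmem, not_not]
    exact hfm
  · intro y hy hyz
    obtain ⟨p, rfl⟩ := hrange y (hle hy)
    have hhp : h ∉ p.asIdeal := by
      rw [← hmem, ← hU]
      exact hy
    obtain ⟨h1, h2⟩ := hp p hhp
    refine ⟨?_, ?_⟩
    · by_contra hyW
      have := h2 hyW
      subst this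
      exact hyz hm
    · rw [hbf _ hy, hmem]
      intro hfp
      have := h1 hfp
      subst this
      exact hyz hm

/-- Extending a unit to a neighbourhood, on a two-element open cover. -/
theorem exists_unit (i : X₀ ⟶ X) [IsClosedImmersion i] [IsNoetherian X]
    (hb : ∀ Y : Set X, IsClosed Y → Y.Nonempty → _root_.IsConnected Y →
      (Y ∩ Set.range i.base).Nonempty ∧ _root_.IsConnected (Y ∩ Set.range i.base))
    (W : X₀.Opens) (z : X₀) (hz : IsClosed ({z} : Set X₀)) (hzW : z ∉ W)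
    (U : X.Opens) (hU : IsAffineOpen U) (f : Γ(X₀, i ⁻¹ᵁ U)) (hzU : z ∈ i ⁻¹ᵁ U)
    (hzf : z ∉ X₀.basicOpen f) (hf : ∀ y ∈ i ⁻¹ᵁ U, y ≠ z → y ∈ W ∧ y ∈ X₀.basicOpen f)
    (g g' : Γ(X₀, W ⊓ i ⁻¹ᵁ U)) (hgg : g * g' = 1) :
    ∃ (A B : X.Opens) (u u' : Γ(X, A ⊓ B)), A ⊔ B = ⊤ ∧ u * u' = 1 ∧ W ≤ i ⁻¹ᵁ A ∧
      i ⁻¹ᵁ U ≤ i ⁻¹ᵁ B ∧ ∃ hWV : W ⊓ i ⁻¹ᵁ U ≤ i ⁻¹ᵁ (A ⊓ B), g = pl i hWV u := by
  have hV : IsAffineOpen (i ⁻¹ᵁ U) := hU.preimage i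
  have hWV : W ⊓ i ⁻¹ᵁ U = X₀.basicOpen f := by
    ext y
    constructor
    · rintro ⟨hyW, hyU⟩
      have : y ≠ z := by
        rintro rfl
        exact hzW hyW
      exact (hf y hyU this).2
    · intro hy
      have hyU : y ∈ i ⁻¹ᵁ U := X₀.basicOpen_le f hy
      have : y ≠ z := by
        rintro rfl
        exact hzf hy
      exact ⟨(hf y hyU this).1, hyU⟩
  -- write `g` as a fraction
  let e : X₀.basicOpen f ≤ W ⊓ i ⁻¹ᵁ U := hWV.ge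
  let e' : W ⊓ i ⁻¹ᵁ U ≤ X₀.basicOpen f := hWV.le
  haveI := hV.isLocalization_basicOpen f
  obtain ⟨⟨a, ⟨_, n, rfl⟩⟩, hga⟩ := IsLocalization.surj (Submonoid.powers f) (ores e g)
  replace hga : ores e g * ores (X₀.basicOpen_le f) (f ^ n) = ores (X₀.basicOpen_le f) a := hga
  have hga' : g * ores (inf_le_right : W ⊓ i ⁻¹ᵁ U ≤ _) f ^ n =
      ores (inf_le_right : W ⊓ i ⁻¹ᵁ U ≤ _) a := by
    have := congrArg (ores e') hga
    rw [map_mul, ores_ores, ores_ores, ores_ores, ores_refl] at this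
    rw [← map_pow]
    exact this
  have hfu : IsUnit (ores (inf_le_right : W ⊓ i ⁻¹ᵁ U ≤ _) f) := by
    have h1 : IsUnit (ores (X₀.basicOpen_le f) f) :=
      RingedSpace.isUnit_res_basicOpen _ f
    have h2 := h1.map (ores e')
    rw [ores_ores] at h2
    exact h2
  have hau : IsUnit (ores (inf_le_right : W ⊓ i ⁻¹ᵁ U ≤ _) a) := by
    rw [← hga']
    exact (IsUnit.of_mul_eq_one _ hgg).mul (hfu.pow n)
  have hDa : X₀.basicOpen f ≤ X₀.basicOpen a := by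
    have h1 : X₀.basicOpen (ores (inf_le_right : W ⊓ i ⁻¹ᵁ U ≤ _) a) =
        (W ⊓ i ⁻¹ᵁ U) ⊓ X₀.basicOpen a := X₀.basicOpen_res a (homOfLE inf_le_right).op
    have h2 : X₀.basicOpen (ores (inf_le_right : W ⊓ i ⁻¹ᵁ U ≤ _) a) = W ⊓ i ⁻¹ᵁ U :=
      X₀.basicOpen_of_isUnit hau
    rw [← hWV]
    rw [h2] at h1
    rw [h1]
    exact inf_le_right
  -- lifts
  obtain ⟨f₁, hf₁⟩ := i.app_surjective U hU f
  obtain ⟨a₁, ha₁⟩ := i.app_surjective U hU a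
  let O : X.Opens := X.basicOpen (a₁ * f₁)
  have hiO : i ⁻¹ᵁ O = X₀.basicOpen f := by
    change i ⁻¹ᵁ X.basicOpen (a₁ * f₁) = _
    rw [Scheme.preimage_basicOpen, map_mul, ha₁, hf₁, Scheme.basicOpen_mul]
    exact inf_eq_right.mpr hDa
  obtain ⟨A', B', hA', hB', hAB', hABO, hzA, hUB⟩ := OnePt.exists_cover
    (i.isClosedEmbedding) hb (U : Set X) (O : Set X) U.isOpen O.isOpen (X.basicOpen_le _) z hz
    hzU (by
      intro h
      apply hzf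
      rw [← hiO]
      exact h) (by
      intro y hy1 hy2
      by_contra hyz
      apply hy2
      change y ∈ i ⁻¹ᵁ O
      rw [hiO]
      exact (hf y hy1 hyz).2)
  let A : X.Opens := ⟨A', hA'⟩
  let B : X.Opens := ⟨B', hB'⟩
  have hABO' : A ⊓ B = O := Opens.ext hABO
  have hABU : A ⊓ B ≤ U := hABO'.le.trans (X.basicOpen_le _)
  have hAB1 : A ⊔ B = ⊤ := Opens.ext hAB'
  have hprod : IsUnit (ores hABU (a₁ * f₁)) := by
    have h1 : IsUnit (ores (X.basicOpen_le (a₁ * f₁)) (a₁ * f₁)) :=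
      RingedSpace.isUnit_res_basicOpen _ _
    have h2 := h1.map (ores hABO'.le)
    rw [ores_ores] at h2
    exact h2
  rw [map_mul, IsUnit.mul_iff] at hprod
  obtain ⟨⟨ua, hua⟩, ⟨uf, huf⟩⟩ := hprod
  have hWA : W ≤ i ⁻¹ᵁ A := by
    intro y hy
    apply hzA
    rintro rfl
    exact hzW hy
  have hVB : i ⁻¹ᵁ U ≤ i ⁻¹ᵁ B := fun y hy => hUB y hy
  have hWV' : W ⊓ i ⁻¹ᵁ U ≤ i ⁻¹ᵁ (A ⊓ B) := fun y hy => ⟨hWA hy.1, hVB hy.2⟩
  refine ⟨A, B, ↑(ua * uf⁻¹ ^ n), ↑(ua * uf⁻¹ ^ n)⁻¹, hAB1, Units.mul_inv _, hWA, hVB, hWV', ?_⟩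
  have hpl : ∀ x : Γ(X, U), pl i hWV' (ores hABU x) =
      ores (inf_le_right : W ⊓ i ⁻¹ᵁ U ≤ _) (i.app U x) := by
    intro x
    change (i.appLE (A ⊓ B) (W ⊓ i ⁻¹ᵁ U) hWV').hom ((X.presheaf.map (homOfLE hABU).op).hom x) = _
    rw [← CommRingCat.comp_apply, Scheme.Hom.map_appLE]
    rfl
  have key : pl i hWV' ↑(ua * uf⁻¹ ^ n) * ores (inf_le_right : W ⊓ i ⁻¹ᵁ U ≤ _) f ^ n =
      ores (inf_le_right : W ⊓ i ⁻¹ᵁ U ≤ _) a := by
    rw [← hf₁, ← ha₁, ← hpl, ← hpl, ← hua, ← huf, ← map_pow, ← map_mul]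
    congr 1
    rw [← Units.val_pow_eq_pow_val, ← Units.val_mul]
    congr 1
    rw [inv_pow, inv_mul_cancel_right]
  refine (hfu.pow n).mul_right_cancel ?_
  rw [key, hga']

end K549.PicSurj
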