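import Groth.Agent.EtCd.K549.PicSurj

/-!
# Surjectivity of `Pic X → Pic X₀` for a closed subscheme of dimension at most one: the theorem
-/

set_option autoImplicit false
universe u

open CategoryTheory CategoryTheory.Limits AlgebraicGeometry Opposite TopologicalSpace

namespace K549.PicSurj

open Groth.Agent
open Groth.Agent.Grpsch.PicGrp
open Groth.Agent.Fdesc.LocGen hiding tmul smul_tmul tmul_smul
open K549.PicGlue

variable {X X₀ : Scheme.{u}}

theorem subsingleton_of_le_bot (L : X.Modules) {V : X.Opens} (hV : V ≤ ⊥) :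
    Subsingleton Γ(L, V) := by
  obtain rfl : V = ⊥ := le_bot_iff.mp hV
  exact Module.subsingleton Γ(X, ⊥) Γ(L, ⊥)

theorem isGen_bot (L : X.Modules) (m : Γ(L, (⊥ : X.Opens))) : IsGen m := by
  intro V hV
  obtain rfl : V = ⊥ := le_bot_iff.mp hV
  haveI : Subsingleton Γ(L, (⊥ : X.Opens)) := subsingleton_of_le_bot L le_rfl
  exact ⟨fun a b _ => Subsingleton.elim _ _, fun b => ⟨0, Subsingleton.elim _ _⟩⟩

theorem mk_eq_one_of_isGen {L : X.Modules} (hL : PicF.IsInvertible L) {w : Γ(L, ⊤)}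
    (hw : IsGen w) : mk L hL = 1 := by
  rw [mk_eq_one_iff]
  haveI : IsIso (homOf w) := by
    rw [isIso_iff_isGen, sec_homOf, res_refl]
    exact hw
  exact ⟨(asIso (homOf w)).symm⟩

theorem surj (i : X₀ ⟶ X) [IsClosedImmersion i] [IsNoetherian X]
    (ha : topologicalKrullDim X₀ ≤ 1)
    (hb : ∀ Y : Set X, IsClosed Y → Y.Nonempty → _root_.IsConnected Y →
      (Y ∩ Set.range i.base).Nonempty ∧ _root_.IsConnected (Y ∩ Set.range i.base))
    (c : Pic X₀) : ∃ d : Pic X, pull i d = c := by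
  haveI : IsLocallyNoetherian X₀ := LocallyOfFiniteType.isLocallyNoetherian i
  haveI : NoetherianSpace X₀ := i.isClosedEmbedding.isInducing.noetherianSpace
  let P : Set X₀.Opens := {W | ∃ (L : X₀.Modules) (hL : PicF.IsInvertible L) (d : Pic X),
    c = mk L hL * pull i d ∧ ∃ w : Γ(L, W), IsGen w}
  have hP : P.Nonempty := by
    obtain ⟨L, hL, rfl⟩ := exists_mk c
    exact ⟨⊥, L, hL, 1, by rw [map_one, mul_one], 0, isGen_bot L 0⟩
  obtain ⟨W, ⟨L, hL, d, hc, w, hw⟩, hmax⟩ := (wellFounded_gt (α := X₀.Opens)).has_min P hP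
  by_cases hWtop : W = ⊤
  · subst hWtop
    exact ⟨d, by rw [hc, mk_eq_one_of_isGen hL hw, one_mul]⟩
  exfalso
  have hne : ((W : Set X₀)ᶜ).Nonempty := by
    by_contra hcon
    rw [Set.not_nonempty_iff_eq_empty, Set.compl_empty_iff] at hcon
    exact hWtop (Opens.ext hcon)
  obtain ⟨z, hzW, hz⟩ := W.isOpen.isClosed_compl.exists_closed_singleton hne
  have hdense : Dense (W : Set X₀) := by
    intro y
    by_contra hy
    obtain ⟨V₁, e₁, hyV₁, he₁⟩ := (isInvertible_iff L).1 hL y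
    let V₀ : X₀.Opens := ⟨(closure (W : Set X₀))ᶜ, isClosed_closure.isOpen_compl⟩
    have hbot : W ⊓ (V₀ ⊓ V₁) ≤ ⊥ := fun x hx => hx.2.1 (subset_closure hx.1)
    haveI := subsingleton_of_le_bot L hbot
    obtain ⟨s, hs⟩ := glue_sections L hw (he₁.res (inf_le_right : V₀ ⊓ V₁ ≤ V₁))
      (Subsingleton.elim _ _)
    refine hmax (W ⊔ (V₀ ⊓ V₁)) ⟨L, hL, d, hc, s, hs⟩ ?_
    refine lt_of_le_of_ne le_sup_left ?_
    intro h
    have : y ∈ W ⊔ (V₀ ⊓ V₁) := Or.inr ⟨hy, hyV₁⟩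
    rw [← h] at this
    exact hy (subset_closure this)
  obtain ⟨V₁, e₁, hzV₁, he₁⟩ := (isInvertible_iff L).1 hL z
  obtain ⟨U, hU, f, hUV, hzU, hzf, hf⟩ := exists_opens i ha W hdense z hz hzW V₁ hzV₁
  obtain ⟨g, hg, hge⟩ := (hw.res (inf_le_left : W ⊓ i ⁻¹ᵁ U ≤ W)).exists_unit
    ((he₁.res hUV).res (inf_le_right : W ⊓ i ⁻¹ᵁ U ≤ i ⁻¹ᵁ U))
  obtain ⟨g', hgg⟩ := hg.exists_right_inv
  obtain ⟨A, B, u, u', hAB, huu, hWA, hVB, hWV, hgu⟩ := exists_unit i hb W z hz hzW U hU f hzU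
    hzf hf g g' hgg
  obtain ⟨L₁, hL₁, c', hc', w₁, hw₁⟩ := step i hL hw (he₁.res hUV) g hge A B hAB u u' huu hWA hVB
    hWV hgu
  refine hmax (W ⊔ i ⁻¹ᵁ U) ⟨L₁, hL₁, c' * d, ?_, w₁, hw₁⟩ ?_
  · rw [hc, hc', map_mul, mul_assoc]
  · refine lt_of_le_of_ne le_sup_left ?_
    intro h
    have : z ∈ W ⊔ i ⁻¹ᵁ U := Or.inr hzU
    rw [← h] at this
    exact hzW this

end K549.PicSurj
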