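import Groth.Agent.Sga5.ProjSmooth
import Groth.Agent.Ega4B.DimFT2
import Groth.Agent.Lefpen.H718.Reg
import Groth.Agent.CohqB.ProjBC

/-!
# Dimension of closed subsets of projective space over a field and heights of ideals
-/

set_option autoImplicit false
universe u

open CategoryTheory CategoryTheory.Limits AlgebraicGeometry MvPolynomial TopologicalSpace

namespace K549.ProjDim

open CohB1

/-- Comparison of dimensions of two spaces mapping to a third one. -/
theorem dim_le_of_range {P S T : Type*} [TopologicalSpace P] [TopologicalSpace S]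
    [TopologicalSpace T] {a : S → P} {b : T → P} (ha : Topology.IsInducing a)
    (hb : Topology.IsInducing b) (h : Set.range a ⊆ Set.range b) :
    topologicalKrullDim S ≤ topologicalKrullDim T := by
  have h1 : ∀ s, ∃ t, b t = a s := fun s => h ⟨s, rfl⟩
  choose f hf using h1
  have hf' : b ∘ f = a := funext hf
  rw [← hf'] at ha
  exact (hb.of_comp_iff.mp ha).topologicalKrullDim_le

/-- A bound of the dimension of a sober space by a function on points. -/
theorem dim_le_of_rank {T : Type*} [TopologicalSpace T] [QuasiSober T] [T0Space T] (m : ℕ)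
    (φ : T → ℕ) (hφ : ∀ x y, y ⤳ x → x ≠ y → φ x < φ y) (hm : ∀ x, φ x ≤ m) :
    topologicalKrullDim T ≤ (m : WithBot ℕ∞) := by
  letI := specializationOrder T
  have h1 : topologicalKrullDim T = Order.krullDim T := by
    unfold topologicalKrullDim
    exact Order.krullDim_eq_of_orderIso irreducibleSetEquivPoints
  rw [h1]
  let ψ : T → Fin (m + 1) := fun x => ⟨φ x, Nat.lt_succ_of_le (hm x)⟩
  have hψ : StrictMono ψ := fun x y hxy => hφ x y hxy.le hxy.ne
  refine iSup_le fun s => ?_
  have h2 := (s.map ψ hψ).length_lt_card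
  rw [Fintype.card_fin, LTSeries.map_length] at h2
  exact_mod_cast Nat.le_of_lt_succ h2

section point

variable {N : ℕ} {R : Type u} [CommRing R]

/-- The homogeneous prime ideal of a point of projective space. -/
noncomputable def idl (x : ProjSpace N R) : Ideal (MvPolynomial (Fin (N + 1)) R) :=
  (ProjectiveSpectrum.asHomogeneousIdeal (𝒜 := polyGrading N R) x).toIdeal

instance isPrime_idl (x : ProjSpace N R) : (idl x).IsPrime :=
  ProjectiveSpectrum.isPrime (𝒜 := polyGrading N R) x

theorem idl_isHomogeneous (x : ProjSpace N R) : (idl x).IsHomogeneous (polyGrading N R) :=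
  (ProjectiveSpectrum.asHomogeneousIdeal (𝒜 := polyGrading N R) x).isHomogeneous

theorem specializes_iff (x y : ProjSpace N R) : x ⤳ y ↔ idl x ≤ idl y := by
  rw [specializes_iff_mem_closure]
  exact (ProjectiveSpectrum.le_iff_mem_closure (polyGrading N R) x y).symm

theorem idl_injective : Function.Injective (idl : ProjSpace N R → _) := by
  intro x y h
  exact ProjectiveSpectrum.ext (HomogeneousIdeal.ext h)

theorem exists_X_notMem (x : ProjSpace N R) : ∃ i, (X i : MvPolynomial (Fin (N + 1)) R) ∉ idl x :=
  Groth.Agent.PerfB.ProjSpaceCover.exists_mem_basicOpen_X N R x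

theorem exists_point (Q : Ideal (MvPolynomial (Fin (N + 1)) R)) (hQ : Q.IsPrime)
    (hh : Q.IsHomogeneous (polyGrading N R)) (i : Fin (N + 1))
    (hi : (X i : MvPolynomial (Fin (N + 1)) R) ∉ Q) : ∃ x : ProjSpace N R, idl x = Q := by
  refine ⟨(⟨⟨Q, hh⟩, hQ, ?_⟩ : ProjectiveSpectrum (polyGrading N R)), rfl⟩
  intro h
  apply hi
  exact h (HomogeneousIdeal.mem_irrelevant_of_mem _ one_pos
    (by rw [MvPolynomial.mem_homogeneousSubmodule]; exact isHomogeneous_X _ i))

theorem isClosed_le (J : Ideal (MvPolynomial (Fin (N + 1)) R)) :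
    IsClosed {x : ProjSpace N R | J ≤ idl x} :=
  ProjectiveSpectrum.isClosed_zeroLocus (polyGrading N R) (J : Set (MvPolynomial (Fin (N + 1)) R))

end point

variable {k : Type u} [Field k] {N : ℕ}

/-- The irrelevant ideal. -/
noncomputable abbrev irr (k : Type u) [Field k] (N : ℕ) : Ideal (MvPolynomial (Fin (N + 1)) k) :=
  RingHom.ker (constantCoeff : MvPolynomial (Fin (N + 1)) k →+* k)

theorem height_irr : (irr k N).height = (N + 1 : ℕ) := by
  have : (irr k N).IsMaximal :=
    RingHom.ker_isMaximal_of_surjective _ fun a => ⟨C a, constantCoeff_C _ a⟩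
  exact Groth.Agent.Ega4B.DimFT.height_eq_of_isMaximal_mvPolynomial_fin k (N + 1) _

theorem idl_lt_irr (x : ProjSpace N k) : idl x < irr k N := by
  obtain ⟨i, hi⟩ := exists_X_notMem x
  refine lt_of_le_of_ne ?_ ?_
  · intro f hf
    rw [RingHom.mem_ker]
    by_contra h
    have h1 := idl_isHomogeneous x 0 hf
    have h2 : (C (constantCoeff f) : MvPolynomial (Fin (N + 1)) k) ∈ idl x := by
      have h3 : ((DirectSum.decompose (polyGrading N k) f 0 :
          polyGrading N k 0) : MvPolynomial (Fin (N + 1)) k) = homogeneousComponent 0 f :=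
        MvPolynomial.decomposition.decompose'_apply f 0
      rw [h3, homogeneousComponent_zero] at h1
      exact h1
    have h4 : (1 : MvPolynomial (Fin (N + 1)) k) ∈ idl x := by
      have := Ideal.mul_mem_left _ (C (constantCoeff f)⁻¹) h2
      rwa [← C_mul, inv_mul_cancel₀ h, C_1] at this
    exact (isPrime_idl x).ne_top ((Ideal.eq_top_iff_one _).mpr h4)
  · intro h
    rw [h] at hi
    exact hi (constantCoeff_X _ i)

theorem height_idl_le (x : ProjSpace N k) : (idl x).height ≤ (N : ℕ∞) := by
  have h1 : (idl x).height + 1 ≤ (irr k N).height := by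
    have : (irr k N).IsMaximal :=
      RingHom.ker_isMaximal_of_surjective _ fun a => ⟨C a, constantCoeff_C _ a⟩
    exact Ideal.height_add_one_le_of_lt_of_isPrime (idl_lt_irr x)
  rw [height_irr] at h1
  push_cast at h1
  exact (ENat.add_le_add_iff_right (by simp)).mp h1

/-- A closed subset defined by an ideal of height at least `r` has dimension at most `N - r`. -/
theorem dim_le (J : Ideal (MvPolynomial (Fin (N + 1)) k)) (r : ℕ) (hr : r ≤ N)
    (hJ : (r : ℕ∞) ≤ J.height) :
    topologicalKrullDim {x : ProjSpace N k | J ≤ idl x} ≤ ((N - r : ℕ) : WithBot ℕ∞) := by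
  let T : Set (ProjSpace N k) := {x | J ≤ idl x}
  have hT : IsClosed T := isClosed_le J
  haveI : QuasiSober T := hT.isClosedEmbedding_subtypeVal.quasiSober
  have hfin : ∀ x : T, ((idl x.1).height.toNat : ℕ∞) = (idl x.1).height := fun x =>
    ENat.natCast_toNat (ne_top_of_le_ne_top (ENat.natCast_ne_top N) (height_idl_le x.1))
  have hle : ∀ x : T, (idl x.1).height.toNat ≤ N := by
    intro x
    have := height_idl_le x.1
    rw [← hfin x] at this
    exact_mod_cast this
  have hge : ∀ x : T, r ≤ (idl x.1).height.toNat := by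
    intro x
    have := hJ.trans (Ideal.height_mono (show J ≤ idl x.1 from x.2))
    rw [← hfin x] at this
    exact_mod_cast this
  refine dim_le_of_rank (T := T) (N - r) (fun x => N - (idl x.1).height.toNat) ?_ ?_
  · intro x y h2 hxy
    have h3 : idl y.1 ≤ idl x.1 := (specializes_iff _ _).mp (h2.map continuous_subtype_val)
    have h4 : idl y.1 < idl x.1 := lt_of_le_of_ne h3 (fun h => hxy
      (Subtype.ext (idl_injective h)).symm)
    have h5 := Ideal.height_add_one_le_of_lt_of_isPrime h4
    rw [← hfin x, ← hfin y] at h5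
    have h6 : (idl y.1).height.toNat + 1 ≤ (idl x.1).height.toNat := by exact_mod_cast h5
    have h7 := hle x
    change N - (idl x.1).height.toNat < N - (idl y.1).height.toNat
    omega
  · intro x
    have := hge x
    change N - (idl x.1).height.toNat ≤ N - r
    omega

/-- The height of a homogeneous ideal whose zero set has dimension at most `n`. -/
theorem le_height (I : Ideal (MvPolynomial (Fin (N + 1)) k))
    (hI : I.IsHomogeneous (polyGrading N k)) (n : ℕ)
    (hdim : topologicalKrullDim {x : ProjSpace N k | I ≤ idl x} ≤ (n : WithBot ℕ∞)) :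
    ((N - n : ℕ) : ℕ∞) ≤ I.height := by
  rw [Ideal.height_eq_inf_minimalPrimes]
  refine le_iInf₂ fun Q hQ => ?_
  have hQp : Q.IsPrime := hQ.1.1
  -- `Q` is homogeneous
  have hQh : Q.IsHomogeneous (polyGrading N k) := by
    have h1 : (Q.homogeneousCore (polyGrading N k)).toIdeal.IsPrime := hQp.homogeneousCore
    have h2 : I ≤ (Q.homogeneousCore (polyGrading N k)).toIdeal := by
      rw [← hI.toIdeal_homogeneousCore_eq_self]
      exact Ideal.homogeneousCore_mono _ hQ.1.2
    have h3 : (Q.homogeneousCore (polyGrading N k)).toIdeal = Q :=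
      le_antisymm (Ideal.toIdeal_homogeneousCore_le _ _)
        (hQ.2 ⟨h1, h2⟩ (Ideal.toIdeal_homogeneousCore_le _ _))
    rw [← h3]
    exact (Q.homogeneousCore (polyGrading N k)).isHomogeneous
  by_cases hX : ∀ i, (X i : MvPolynomial (Fin (N + 1)) k) ∈ Q
  · refine le_trans ?_ (Groth.Agent.Lefpen.H718.Reg.le_height_irrelevant Q hX)
    exact_mod_cast (by omega : N - n ≤ N + 1)
  push Not at hX
  obtain ⟨i, hi⟩ := hX
  obtain ⟨q, rfl⟩ := exists_point Q hQp hQh i hi
  -- the chart
  let c := Groth.Agent.Sga5.ProjSmooth.chart N k i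
  have hq : q ∈ c.opensRange := by
    rw [Groth.Agent.Sga5.ProjSmooth.opensRange_chart]
    exact hi
  obtain ⟨q', hq'⟩ := hq
  let p : PrimeSpectrum (MvPolynomial (Fin N) k) := q'
  have hp : c p = q := hq'
  have hc : Topology.IsOpenEmbedding (fun x : PrimeSpectrum (MvPolynomial (Fin N) k) =>
    (c x : ProjSpace N k)) := c.isOpenEmbedding
  -- the dimension of the closure
  have hdimp : ringKrullDim (MvPolynomial (Fin N) k ⧸ p.asIdeal) ≤ (n : WithBot ℕ∞) := by
    rw [← PrimeSpectrum.topologicalKrullDim_eq_ringKrullDim]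
    refine (dim_le_of_range (P := ProjSpace N k)
      (a := fun x : PrimeSpectrum (MvPolynomial (Fin N) k ⧸ p.asIdeal) =>
        (c (PrimeSpectrum.comap (Ideal.Quotient.mk p.asIdeal) x) : ProjSpace N k))
      (b := (Subtype.val : {x : ProjSpace N k | I ≤ idl x} → ProjSpace N k))
      (hc.isInducing.comp (PrimeSpectrum.isClosedEmbedding_comap_of_surjective _ _
        Ideal.Quotient.mk_surjective).isInducing) Topology.IsInducing.subtypeVal ?_).trans hdim
    rintro _ ⟨x, rfl⟩
    rw [Subtype.range_val]
    have h1 : p ⤳ PrimeSpectrum.comap (Ideal.Quotient.mk p.asIdeal) x := by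
      rw [← PrimeSpectrum.le_iff_specializes]
      intro a ha
      change Ideal.Quotient.mk p.asIdeal a ∈ x.asIdeal
      rw [Ideal.Quotient.eq_zero_iff_mem.mpr ha]
      exact zero_mem _
    have h2 := h1.map hc.continuous
    change I ≤ idl _
    refine hQ.1.2.trans ?_
    rw [← hp]
    exact (specializes_iff _ _).mp h2
  have hformula := Groth.Agent.Ega4B.DimFT2.height_add_dim k (MvPolynomial (Fin N) k) p.asIdeal
  have hN : ringKrullDim (MvPolynomial (Fin N) k) = (N : WithBot ℕ∞) := by
    rw [MvPolynomial.ringKrullDim_of_isNoetherianRing, ringKrullDim_eq_zero_of_field, zero_add]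
    simp
  rw [hN] at hformula
  have h3 : ((N - n : ℕ) : ℕ∞) ≤ p.asIdeal.height := by
    have h4 : (N : WithBot ℕ∞) ≤ (p.asIdeal.height : WithBot ℕ∞) + (n : WithBot ℕ∞) := by
      rw [← hformula]
      gcongr
    have h5 : (N : ℕ∞) ≤ p.asIdeal.height + (n : ℕ∞) := by exact_mod_cast h4
    rw [ENat.natCast_sub]
    exact tsub_le_iff_right.mpr h5
  refine h3.trans ?_
  -- comparison of heights
  let φ : PrimeSpectrum (MvPolynomial (Fin N) k) → PrimeSpectrum (MvPolynomial (Fin (N + 1)) k) :=
    fun x => ⟨idl (c x : ProjSpace N k), inferInstance⟩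
  have hφ : StrictMono φ := by
    intro x y hxy
    have h4 : idl (c x : ProjSpace N k) ≤ idl (c y : ProjSpace N k) :=
      (specializes_iff _ _).mp (((PrimeSpectrum.le_iff_specializes x y).mp hxy.le).map hc.continuous)
    refine lt_of_le_of_ne h4 ?_
    intro h
    apply hxy.ne
    exact hc.injective (idl_injective (congrArg PrimeSpectrum.asIdeal h))
  have h4 := Order.height_le_height_apply_of_strictMono φ hφ p
  rw [← PrimeSpectrum.height_eq_orderHeight, ← PrimeSpectrum.height_eq_orderHeight] at h4
  refine h4.trans ?_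
  change (idl (c p : ProjSpace N k)).height ≤ _
  rw [hp]

end K549.ProjDim
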