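import Groth.Agent.Etbc.H209.Induct
import Groth.Agent.Etbc.H211.PrimOps
import Groth.Agent.CurvesA.GenStalk
import Groth.Agent.Sga4h.PrimeDev219

/-!
# Cohomology of direct images of sheaves from a point: closure properties

For `x : X` and `i : Spec κ(x) ⟶ X`:
* `not_mem_supp_cokernel_push`: `x` is not in the support of the cokernel of `i_* G₂ ⟶ i_* G₃`, `G₂ ⟶ G₃` epi;
* `cl`: the property "`G` is `ℓ`-primary torsion and `H^n(X, i_* G) = 0`, `n > m`" is stable under retracts and
  extensions, if `H^n(X, C) = 0` (`n ≥ m`) for the `ℓ`-primary `C` supported in the proper specializations of `x`.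
-/

set_option autoImplicit false
universe u

open CategoryTheory CategoryTheory.Limits AlgebraicGeometry Opposite TopologicalSpace

namespace K549.PtExt

open Groth.Agent Groth.Agent.CurvesA Groth.Agent.EtpbcA Groth.Agent.EtpbcA.Artin
  Groth.Agent.Etbc.H209.PrimFilt Groth.Agent.Etbc.H211 Groth.Agent.Sga4h

variable {X : Scheme.{u}} (x : X)

theorem not_mem_supp_of_isZero_pull (C : EtCoh.Ab X)
    (h : IsZero ((EtCoh.pull (X.fromSpecResidueField x)).obj C)) : x ∉ EtPBC.supp C := by
  obtain ⟨Ω, _, _, ζ, -⟩ := Etcore.Stalks.exists_geom (default : Spec (X.residueField x))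
  have hx : Set.range (ζ ≫ X.fromSpecResidueField x) = {x} := by
    ext y
    rw [Set.mem_singleton_iff]
    constructor
    · rintro ⟨z, rfl⟩
      rw [Scheme.Hom.comp_apply]
      exact X.fromSpecResidueField_apply x _
    · rintro rfl
      refine ⟨default, ?_⟩
      rw [Scheme.Hom.comp_apply]
      exact X.fromSpecResidueField_apply y _
  rw [mem_supp_iff _ x (ζ ≫ X.fromSpecResidueField x) hx]
  have h1 : IsZero ((EtCoh.stalk ζ).obj ((EtCoh.pull (X.fromSpecResidueField x)).obj C)) :=
    (EtCoh.stalk ζ).map_isZero h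
  exact fun h2 => h2 (h1.of_iso ((Etbase.StalkPull.stalkPullIso (X.fromSpecResidueField x) ζ).app C))

theorem not_mem_supp_cokernel_push {G₂ G₃ : EtCoh.Ab (Spec (X.residueField x))} (φ : G₂ ⟶ G₃) [Epi φ] :
    x ∉ EtPBC.supp (cokernel ((EtCoh.push (X.fromSpecResidueField x)).map φ)) := by
  let i := X.fromSpecResidueField x
  apply not_mem_supp_of_isZero_pull
  have h3 : IsIso (EtCoh.pullPushAdj i).counit := GenStalk.isIso_counit' x
  have h4 : Epi ((EtCoh.pull i).map ((EtCoh.push i).map φ)) := by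
    have e := (EtCoh.pullPushAdj i).counit.naturality φ
    have e' : (EtCoh.pull i).map ((EtCoh.push i).map φ) =
        (EtCoh.pullPushAdj i).counit.app G₂ ≫ φ ≫ inv ((EtCoh.pullPushAdj i).counit.app G₃) := by
      rw [← Category.assoc, IsIso.eq_comp_inv]
      exact e
    rw [e']
    infer_instance
  have hepi : Epi ((EtCoh.pull i).map (cokernel.π ((EtCoh.push i).map φ))) := inferInstance
  have h0 : (EtCoh.pull i).map (cokernel.π ((EtCoh.push i).map φ)) = 0 := by
    rw [← cancel_epi ((EtCoh.pull i).map ((EtCoh.push i).map φ)), ← Functor.map_comp,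
      cokernel.condition, Functor.map_zero, comp_zero]
  exact IsZero.of_epi_eq_zero _ h0

/-- `G` is `ℓ`-primary torsion with `H^n(X, i_* G) = 0` for `n > m`. -/
def P (ℓ m : ℕ) (G : EtCoh.Ab (Spec (X.residueField x))) : Prop :=
  _root_.Dix.IsPrimaryTorsion ℓ G ∧
    ∀ n, m + 1 ≤ n → Subsingleton (EtCoh.H X ((EtCoh.push (X.fromSpecResidueField x)).obj G) n)

/-- Vanishing passes to retracts. -/
theorem van_of_retract {F G : EtCoh.Ab X} (i : F ⟶ G) (r : G ⟶ F) (w : i ≫ r = 𝟙 F) (n : ℕ)
    (h : Subsingleton (EtCoh.H X G n)) : Subsingleton (EtCoh.H X F n) := by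
  have h' : Subsingleton ((EtCoh.HF X n).obj G : Type (u + 1)) := h
  have key : ∀ y : ((EtCoh.HF X n).obj F : Type (u + 1)), y = 0 := by
    intro y
    have h1 : (EtCoh.HF X n).map r ((EtCoh.HF X n).map i y) = y := by
      rw [← ConcreteCategory.comp_apply, ← Functor.map_comp, w, CategoryTheory.Functor.map_id]
      rfl
    rw [← h1, h'.elim ((EtCoh.HF X n).map i y) 0, map_zero]
  exact subsingleton_of_forall_eq 0 key

/-- The closure properties. -/
theorem cl (ℓ m : ℕ)
    (hyp : ∀ C : EtCoh.Ab X, _root_.Dix.IsPrimaryTorsion ℓ C → (∀ y ∈ EtPBC.supp C, x ⤳ y ∧ x ≠ y) →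
      ∀ n, m ≤ n → Subsingleton (EtCoh.H X C n)) : PrimeDev219.Cl (P x ℓ m) where
  retract {F G} i r w hG := by
    have hmono : Mono i := by
      have : IsSplitMono i := ⟨⟨r, w⟩⟩
      infer_instance
    refine ⟨isPrimaryTorsion_of_mono i hG.1, fun n hn => ?_⟩
    refine van_of_retract ((EtCoh.push (X.fromSpecResidueField x)).map i)
      ((EtCoh.push (X.fromSpecResidueField x)).map r) ?_ n (hG.2 n hn)
    rw [← Functor.map_comp, w, CategoryTheory.Functor.map_id]
  ext {S} hS h₁ h₃ := by
    let i := X.fromSpecResidueField x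
    have hepi : Epi S.g := hS.epi_g
    have hmono : Mono S.f := hS.mono_f
    refine ⟨PrimOps.isPrimaryTorsion_of_shortExact hS.exact h₁.1 h₃.1, fun n hn => ?_⟩
    obtain ⟨n, rfl⟩ : ∃ k, n = k + 1 := ⟨n - 1, by omega⟩
    let u := (EtCoh.push i).map S.g
    have hlim : PreservesFiniteLimits (EtCoh.push i) := by
      have : PreservesLimitsOfSize.{0, 0} (EtCoh.push i) :=
        (EtCoh.pullPushAdj i).rightAdjoint_preservesLimits
      exact PreservesLimitsOfSize.preservesFiniteLimits _
    have hk : Nonempty ((EtCoh.push i).obj S.X₁ ≅ kernel u) := by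
      have h1 := ((EtCoh.push i).preservesFiniteLimits_iff_forall_exact_map_and_mono.1 hlim S hS)
      have : Mono (S.map (EtCoh.push i)).f := h1.2
      exact ⟨IsLimit.conePointUniqueUpToIso (h1.1.fIsKernel) (limit.isLimit (parallelPair u 0))⟩
    obtain ⟨e⟩ := hk
    refine Etbc.H209.Induct.van_of_ker_coker u n (CohBasic.van_of_iso e (n + 1) (h₁.2 (n + 1) hn))
      (h₃.2 (n + 1) hn) ?_
    refine hyp _ (isPrimaryTorsion_of_epi (cokernel.π u) (PrimTors.isPrimaryTorsion_push ℓ i _ h₃.1))
      (fun y hy => ?_) n (by omega)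
    have h2 : y ∈ closure (Set.range i) :=
      supp_push_subset i _ (SuppClosed.supp_of_epi (cokernel.π u) hy)
    rw [X.range_fromSpecResidueField x, ← specializes_iff_mem_closure] at h2
    refine ⟨h2, fun h3 => ?_⟩
    subst h3
    exact not_mem_supp_cokernel_push x S.g hy

end K549.PtExt
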