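import Groth.Agent.Etbc.H215.TrdegSH
import Groth.Agent.Ega41.DimFlat
import Groth.Agent.S0538
import Groth.Agent.CycB.RelDim2

/-!
# The dimension formula for the primes of a strict henselization

* `trd_eq_of_isStrictHenselization`: for `A` local, essentially of finite type over a field `k`, `S` a
  strict henselization of `A` and `P` a prime of `S`: `trdeg_k (S/P) = dim (S/P) + trdeg_k κ(A)`.
* `rtd_specOf_eq_zero`: the residue field extensions of `Spec R ⟶ Y` are algebraic.
* `rtd_specOf_comp`: `trdeg_k κ(P) = dim (R/P) + trdeg_k κ(y)`.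
-/

set_option autoImplicit false
universe u
open CategoryTheory CategoryTheory.Limits AlgebraicGeometry Opposite IsLocalRing TensorProduct

namespace K549.SHDim

open Groth.Agent Groth.Agent.CycB.TrdegAlg Groth.Agent.Etbc.H215.DimSH Groth.Agent.CycB.RelDim
  Groth.Agent.Etbc.H215.TrdegSH

/-- The dimension formula for the primes of a strict henselization. -/
theorem trd_eq_of_isStrictHenselization (k A S : Type u) [Field k] [CommRing A] [IsLocalRing A]
    [CommRing S] [IsLocalRing S] [Algebra k A] [Algebra.EssFiniteType k A] [Algebra A S]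
    [IsLocalHom (algebraMap A S)] [hS : Hensel.IsStrictHenselization A S]
    (L : Type u) [Field L] (σ : S →+* L) (hσ : FracGen σ)
    (a : ℕ) (ha : ringKrullDim (S ⧸ RingHom.ker σ) = a) :
    trd (σ.comp ((algebraMap A S).comp (algebraMap k A))) =
      a + trd ((residue A).comp (algebraMap k A)) := by
  refine le_antisymm (trd_le_of_isStrictHenselization k A S L σ hσ a _ ha.le le_rfl) ?_
  let P : Ideal S := RingHom.ker σ
  have hP : P.IsPrime := RingHom.ker_isPrime σ
  have hN : IsNoetherianRing A := Algebra.EssFiniteType.isNoetherianRing k A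
  have hNS : IsNoetherianRing S := (Groth.Agent.S0540.result A S).1 hN
  have hcov : Groth.Agent.Hensel.EtaleNbhd.IsEtaleCovered A S :=
    (Groth.Agent.Hensel.Exist.isHull_of_isStrictHenselization A S).exists_etale_finset
  have hff := Groth.Agent.S0539.result A S
  have hflat : Module.Flat A S := inferInstance
  obtain ⟨s, hs⟩ := (isNoetherianRing_iff_ideal_fg S).1 hNS P
  obtain ⟨A', _, _, _, φ, hess, _, _, _, hφloc, hmax, hsr, hfl⟩ :=
    Groth.Agent.Hensel.EtaleNbhd.exists_local A hcov s
  let _ : Algebra A' S := φ.toRingHom.toAlgebra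
  have hloc' : IsLocalHom (algebraMap A' S) := hφloc
  have hfl' : Module.Flat A' S := hfl inferInstance
  have t0 : IsScalarTower A A' S := IsScalarTower.of_algebraMap_eq fun x => (φ.commutes x).symm
  let _ : Algebra k A' := ((algebraMap A A').comp (algebraMap k A)).toAlgebra
  have t1 : IsScalarTower k A A' := IsScalarTower.of_algebraMap_eq fun _ => rfl
  have hess' : Algebra.EssFiniteType k A' := Algebra.EssFiniteType.comp k A A'
  have hN' : IsNoetherianRing A' := Algebra.EssFiniteType.isNoetherianRing k A'
  let P' : Ideal A' := P.comap (algebraMap A' S)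
  have hP' : P'.IsPrime := Ideal.IsPrime.comap _
  have hPP' : P'.map (algebraMap A' S) = P := by
    apply le_antisymm
    · exact Ideal.map_le_iff_le_comap.2 le_rfl
    · rw [← hs]
      refine Ideal.span_le.2 fun x hx => ?_
      obtain ⟨x', rfl⟩ := hsr hx
      refine Ideal.mem_map_of_mem (algebraMap A' S) ?_
      change φ x' ∈ P
      rw [← hs]
      exact Ideal.subset_span hx
  have hmaxS : (maximalIdeal A').map (algebraMap A' S) = maximalIdeal S := by
    rw [← hmax, Ideal.map_map, ← IsScalarTower.algebraMap_eq]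
    exact Groth.Agent.S0538.result A S
  have l1 : IsLocalRing (A' ⧸ P') := Groth.Agent.CycB.FlatAlg.isLocalRing_quotient' P'
  have l2 : IsLocalRing (S ⧸ P'.map (algebraMap A' S)) :=
    Groth.Agent.CycB.FlatAlg.isLocalRing_quotient P'
  have l3 := Groth.Agent.CycB.FlatAlg.isLocalHom_rel (B := S) P'
  have l4 := Groth.Agent.CycB.FlatAlg.flat_quotient (B := S) P'
  have hdim := Groth.Agent.Ega41.DimFlat.ringKrullDim_eq_add_of_flat (A := A' ⧸ P')
    (B := S ⧸ P'.map (algebraMap A' S))
  have hfib : ringKrullDim ((S ⧸ P'.map (algebraMap A' S)) ⧸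
      (maximalIdeal (A' ⧸ P')).map (algebraMap (A' ⧸ P') (S ⧸ P'.map (algebraMap A' S)))) = 0 := by
    have h1 : (maximalIdeal (A' ⧸ P')).map (algebraMap (A' ⧸ P') (S ⧸ P'.map (algebraMap A' S))) =
        maximalIdeal (S ⧸ P'.map (algebraMap A' S)) := by
      apply le_antisymm
      · exact ((IsLocalRing.local_hom_TFAE
          (algebraMap (A' ⧸ P') (S ⧸ P'.map (algebraMap A' S)))).out 0 2).1 l3
      · intro x hx
        obtain ⟨x, rfl⟩ := Ideal.Quotient.mk_surjective x
        have hx' : x ∈ maximalIdeal S := by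
          have h0 : IsLocalHom (Ideal.Quotient.mk (P'.map (algebraMap A' S))) :=
            IsLocalHom.of_surjective _ Ideal.Quotient.mk_surjective
          rw [mem_maximalIdeal, mem_nonunits_iff] at hx ⊢
          exact fun h => hx (h.map _)
        rw [← hmaxS] at hx'
        have h2 : Ideal.Quotient.mk (P'.map (algebraMap A' S)) x ∈
            ((maximalIdeal A').map (algebraMap A' S)).map
              (Ideal.Quotient.mk (P'.map (algebraMap A' S))) := Ideal.mem_map_of_mem _ hx'
        rw [Ideal.map_map] at h2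
        have h3 : (Ideal.Quotient.mk (P'.map (algebraMap A' S))).comp (algebraMap A' S) =
            (algebraMap (A' ⧸ P') (S ⧸ P'.map (algebraMap A' S))).comp (Ideal.Quotient.mk P') := rfl
        rw [h3, ← Ideal.map_map] at h2
        refine Ideal.map_mono ?_ h2
        have h4 : IsLocalHom (Ideal.Quotient.mk P') :=
          IsLocalHom.of_surjective _ Ideal.Quotient.mk_surjective
        exact ((IsLocalRing.local_hom_TFAE (Ideal.Quotient.mk P')).out 0 2).1 h4
    rw [h1]
    let := Ideal.Quotient.field (maximalIdeal (S ⧸ P'.map (algebraMap A' S)))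
    exact ringKrullDim_eq_zero_of_field _
  rw [hfib, add_zero, hPP'] at hdim
  obtain ⟨h, e, h1, h2, h3⟩ := exists_dim_of_essFiniteType k (A' ⧸ P')
  rw [h1] at hdim
  have hha : h = a := by
    have : ((h : ℕ) : WithBot ℕ∞) = a := by rw [← hdim]; exact ha
    exact_mod_cast this
  subst hha
  -- the residue field of `A'`
  have he : trd ((residue A).comp (algebraMap k A)) ≤ e := by
    rw [← h2]
    have h0 : IsLocalHom (Ideal.Quotient.mk P') := IsLocalHom.of_surjective _ Ideal.Quotient.mk_surjective
    have h4 : (residue (A' ⧸ P')).comp (algebraMap k (A' ⧸ P')) =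
        ((ResidueField.map (Ideal.Quotient.mk P')).comp (ResidueField.map (algebraMap A A'))).comp
          ((residue A).comp (algebraMap k A)) := rfl
    rw [h4, trd_comp]
    exact le_self_add
  -- the map to `L`
  let θ : A' ⧸ P' →+* L := Ideal.Quotient.lift P' (σ.comp (algebraMap A' S)) (fun x hx => hx)
  have hθ : Function.Injective θ := by
    rw [injective_iff_map_eq_zero]
    intro x hx
    obtain ⟨x, rfl⟩ := Ideal.Quotient.mk_surjective x
    exact Ideal.Quotient.eq_zero_iff_mem.2 hx
  have h5 : σ.comp ((algebraMap A S).comp (algebraMap k A)) = θ.comp (algebraMap k (A' ⧸ P')) := by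
    ext x
    change σ (algebraMap A S (algebraMap k A x)) = σ (algebraMap A' S (algebraMap A A' (algebraMap k A x)))
    rw [← IsScalarTower.algebraMap_apply A A' S]
  rw [h5, trd_comp' _ _ (RingHom.injective _) hθ, h3]
  push_cast
  rw [add_assoc]
  exact add_le_add le_rfl (he.trans le_self_add)

/-- The residue field extensions of a strict henselization are algebraic. -/
theorem rtd_specMap_eq_zero (A S : Type u) [CommRing A] [IsLocalRing A] [IsNoetherianRing A]
    [CommRing S] [IsLocalRing S] [Algebra A S] [IsLocalHom (algebraMap A S)]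
    [Hensel.IsStrictHenselization A S] (P : Spec (CommRingCat.of S)) :
    rtd (Spec.map (CommRingCat.ofHom (algebraMap A S))) P = 0 := by
  obtain ⟨σ, hσ, hσg, -⟩ := exists_residue S P
  obtain ⟨α, hα, hαg, -⟩ := exists_residue A (Spec.map (CommRingCat.ofHom (algebraMap A S)) P)
  have comm : ((Spec.map (CommRingCat.ofHom (algebraMap A S))).residueFieldMap P).hom.comp α =
      σ.comp (algebraMap A S) := by
    have : Spec.map (CommRingCat.ofHom
        (((Spec.map (CommRingCat.ofHom (algebraMap A S))).residueFieldMap P).hom.comp α)) =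
        Spec.map (CommRingCat.ofHom (σ.comp (algebraMap A S))) := by
      rw [CommRingCat.ofHom_comp, CommRingCat.ofHom_comp, Spec.map_comp, Spec.map_comp, hσ, hα,
        CommRingCat.ofHom_hom]
      exact Scheme.Hom.SpecMap_residueFieldMap_fromSpecResidueField _ _
    exact congrArg CommRingCat.Hom.hom (Spec.map_injective this)
  have hint := isIntegral_residue A S _ _ α hαg σ hσg _ comm
  unfold rtd
  let _ := ((Spec.map (CommRingCat.ofHom (algebraMap A S))).residueFieldMap P).hom.toAlgebra
  have : Algebra.IsIntegral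
    ((Spec (CommRingCat.of A)).residueField (Spec.map (CommRingCat.ofHom (algebraMap A S)) P))
    ((Spec (CommRingCat.of S)).residueField P) := ⟨hint⟩
  exact trdeg_eq_zero

theorem rtd_specOf_eq_zero {Y : Scheme.{u}} [IsLocallyNoetherian Y] (y : Y)
    (R : Type u) [CommRing R] [IsLocalRing R] [Algebra (Y.presheaf.stalk y) R]
    [IsLocalHom (algebraMap (Y.presheaf.stalk y) R)]
    [Hensel.IsStrictHenselization (Y.presheaf.stalk y) R] (P : Spec (CommRingCat.of R)) :
    rtd (Hens2.specOf Y y R) P = 0 := by
  rw [Hens2.specOf, rtd_comp, rtd_eq_zero_of_isPreimmersion, zero_add]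
  exact rtd_specMap_eq_zero _ _ _

/-- Relative transcendence degree over a field. -/
theorem rtd_eq_trd_of_specMap {k : Type u} [Field k] {X : Scheme.{u}}
    (g : X ⟶ Spec (CommRingCat.of k)) (x : X) (φ : k →+* X.residueField x)
    (hφ : Spec.map (CommRingCat.ofHom φ) = X.fromSpecResidueField x ≫ g) : rtd g x = trd φ := by
  obtain ⟨α, hα, hαg, -⟩ := exists_residue k (g x)
  have comm : (g.residueFieldMap x).hom.comp α = φ := by
    have : Spec.map (CommRingCat.ofHom ((g.residueFieldMap x).hom.comp α)) =
        Spec.map (CommRingCat.ofHom φ) := by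
      rw [CommRingCat.ofHom_comp, Spec.map_comp, hφ, hα, CommRingCat.ofHom_hom]
      exact Scheme.Hom.SpecMap_residueFieldMap_fromSpecResidueField _ _
    exact congrArg CommRingCat.Hom.hom (Spec.map_injective this)
  rw [← comm, trd_comp_surjective']
  · rfl
  · intro z
    obtain ⟨a, b, hb, hab⟩ := hαg z
    refine ⟨a / b, ?_⟩
    rw [map_div₀, ← hab, mul_div_cancel_right₀ _ hb]

/-- The dimension formula on a strict localization. -/
theorem rtd_specOf_comp (k : Type u) [Field k] {Y : Scheme.{u}}
    (g : Y ⟶ Spec (CommRingCat.of k)) [LocallyOfFiniteType g] (y : Y)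
    (R : Type u) [CommRing R] [IsLocalRing R] [Algebra (Y.presheaf.stalk y) R]
    [IsLocalHom (algebraMap (Y.presheaf.stalk y) R)]
    [Hensel.IsStrictHenselization (Y.presheaf.stalk y) R] (P : Spec (CommRingCat.of R)) (a : ℕ)
    (ha : ringKrullDim (R ⧸ P.asIdeal) = a) :
    rtd (Hens2.specOf Y y R ≫ g) P = a + rtd g y := by
  obtain ⟨ρ, hess, hρ⟩ := exists_stalkMap k g y
  let _ : Algebra k (Y.presheaf.stalk y) := ρ.toAlgebra
  have hess' : Algebra.EssFiniteType k (Y.presheaf.stalk y) := hess
  obtain ⟨σ, hσ, hgen, hker⟩ := exists_residue R P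
  have hφ : Spec.map (CommRingCat.ofHom ((residue (Y.presheaf.stalk y)).comp ρ)) =
      Y.fromSpecResidueField y ≫ g := by
    rw [CommRingCat.ofHom_comp, Spec.map_comp, hρ, ← Category.assoc]
    rfl
  have h1 := trd_eq_of_isStrictHenselization k (Y.presheaf.stalk y) R _ σ hgen a
    (by rw [hker]; exact ha)
  have h2 : Spec.map (CommRingCat.ofHom (σ.comp ((algebraMap (Y.presheaf.stalk y) R).comp ρ))) =
      (Spec (CommRingCat.of R)).fromSpecResidueField P ≫ Hens2.specOf Y y R ≫ g := by
    rw [CommRingCat.ofHom_comp, CommRingCat.ofHom_comp, Spec.map_comp,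
      Spec.map_comp, hρ, hσ, Hens2.specOf]
    simp only [Category.assoc]
  rw [rtd_eq_trd_of_specMap _ _ _ h2, rtd_eq_trd_of_specMap _ _ _ hφ]
  exact h1

end K549.SHDim
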