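import Groth.Agent.Etbc.H208.PolyLoc
import Mathlib.AlgebraicGeometry.Morphisms.FiniteType
import Mathlib.AlgebraicGeometry.Morphisms.QuasiCompact
import Mathlib.AlgebraicGeometry.Morphisms.Affine

/-!
# Strict henselizations at arbitrary points as strict henselizations at closed points

* `isStrict_of_jointly_epi`: a formal criterion.
* `exists_poly`: a transcendence basis of the residue field lifts to the ring.
* `main_ring`: the ring version of the statement.
-/

set_option autoImplicit false
universe u

open TensorProduct IsLocalRing CategoryTheory AlgebraicGeometry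

namespace K549.ShModel

open Groth.Agent Groth.Agent.Etbc.H208

/-- A formal criterion for strict henselizations. -/
theorem isStrict_of_jointly_epi {P W L T B : Type u} [CommRing P] [IsLocalRing P] [CommRing W]
    [IsLocalRing W] [CommRing L] [IsLocalRing L] [CommRing T] [IsLocalRing T] [CommRing B]
    [IsLocalRing B] [Algebra P W] [IsLocalHom (algebraMap P W)]
    [hW : Hensel.IsStrictHenselization P W] [Algebra L T] [IsLocalHom (algebraMap L T)]
    [hT : Hensel.IsStrictHenselization L T] [Algebra B T] [IsLocalHom (algebraMap B T)]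
    (i : W →+* B) [IsLocalHom i] (j : L →+* B) [IsLocalHom j] (e : P →+* L)
    (hcomm : i.comp (algebraMap P W) = j.comp e)
    (hj : (algebraMap B T).comp j = algebraMap L T)
    (hepi : ∀ (T₂ : Type u) [CommRing T₂] (u v : B →+* T₂), u.comp i = v.comp i →
      u.comp j = v.comp j → u = v) :
    Hensel.IsStrictHenselization B T where
  henselian := hT.henselian
  isSepClosure := by
    let _ : Algebra (ResidueField L) (ResidueField B) := (ResidueField.map j).toAlgebra
    have hsc : IsScalarTower (ResidueField L) (ResidueField B) (ResidueField T) := by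
      refine IsScalarTower.of_algebraMap_eq' ?_
      change ResidueField.map (algebraMap L T) =
        (ResidueField.map (algebraMap B T)).comp (ResidueField.map j)
      rw [← ResidueField.map_comp]
      congr 1
      exact hj.symm
    have h1 := hT.isSepClosure
    have h2 := h1.separable
    exact ⟨h1.sep_closed, Algebra.isSeparable_tower_top_of_isSeparable (ResidueField L)
      (ResidueField B) (ResidueField T)⟩
  universal := by
    intro T₂ _ _ h _ τ hτ
    have hjL : ∀ f : L →+* T₂, f = h.comp j → ResidueField.map (algebraMap L T) =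
      (ResidueField.map (algebraMap B T)).comp (ResidueField.map j) := by
      intro _ _
      rw [← ResidueField.map_comp]
      congr 1
      exact hj.symm
    have hres : τ.comp (ResidueField.map (algebraMap L T)) = ResidueField.map (h.comp j) := by
      rw [hjL _ rfl, ← RingHom.comp_assoc, hτ, ResidueField.map_comp]
    obtain ⟨g, ⟨hg1, hg2⟩, hg3⟩ := hT.universal T₂ (h.comp j) τ hres
    refine ⟨g, ⟨?_, hg2⟩, ?_⟩
    · apply hepi
      · -- the universal property of `W`
        have hloc2 : IsLocalHom ((h.comp i).comp (algebraMap P W)) := by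
          infer_instance
        obtain ⟨g', -, hg'⟩ := hW.universal T₂ ((h.comp i).comp (algebraMap P W))
          ((ResidueField.map h).comp (ResidueField.map i)) (by
            rw [← ResidueField.map_comp, ← ResidueField.map_comp])
        have e1 : (g.comp (algebraMap B T)).comp i = g' := by
          apply hg'
          constructor
          · calc ((g.comp (algebraMap B T)).comp i).comp (algebraMap P W)
                = (g.comp (algebraMap B T)).comp (i.comp (algebraMap P W)) := rfl
              _ = (g.comp (algebraMap B T)).comp (j.comp e) := by rw [hcomm]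
              _ = (g.comp ((algebraMap B T).comp j)).comp e := rfl
              _ = (h.comp j).comp e := by rw [hj, hg1]
              _ = h.comp (j.comp e) := rfl
              _ = _ := by rw [← hcomm]; rfl
          · intro w
            have h3 := hg2 (algebraMap B T (i w))
            have h4 := congrArg (fun f => f (residue B (i w))) hτ
            exact h3.trans h4
        have e2 : h.comp i = g' := by
          apply hg'
          exact ⟨rfl, fun w => rfl⟩
        rw [e1, e2]
      · rw [RingHom.comp_assoc, hj, hg1]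
    · rintro g₂ ⟨h1, h2⟩
      apply hg3
      refine ⟨?_, h2⟩
      rw [← hj, ← RingHom.comp_assoc, h1]

/-- Existence of polynomials lifting a transcendence basis of the residue extension. -/
theorem exists_poly (V S : Type u) [CommRing V] [CommRing S] [Algebra V S]
    [Algebra.FiniteType V S] (q : Ideal S) [q.IsPrime] :
    ∃ (ι : Type u) (_ : Finite ι) (θ : MvPolynomial ι V →ₐ[V] S),
      q.comap θ.toRingHom = (q.under V).map (MvPolynomial.C : V →+* MvPolynomial ι V) ∧
      ∀ s : S, ∃ p : Polynomial (MvPolynomial ι V),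
        (∃ n, p.coeff n ∉ q.comap θ.toRingHom) ∧ p.eval₂ θ.toRingHom s ∈ q := by
  let v := q.under V
  obtain ⟨ι, x, hx⟩ := exists_isTranscendenceBasis' (V ⧸ v) (S ⧸ q)
  have hft : Algebra.FiniteType (V ⧸ v) (S ⧸ q) := by
    have : Algebra.FiniteType V (S ⧸ q) := inferInstance
    exact Algebra.FiniteType.of_restrictScalars_finiteType V (V ⧸ v) (S ⧸ q)
  have hcard : Cardinal.mk ι = Algebra.trdeg (V ⧸ v) (S ⧸ q) := hx.cardinalMk_eq_trdeg
  have hfin : Finite ι := by
    rw [← Cardinal.lt_aleph0_iff_finite, hcard]
    exact trdeg_lt_aleph0_of_finiteType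
  choose y hy using fun i => Ideal.Quotient.mk_surjective (x i)
  let θ : MvPolynomial ι V →ₐ[V] S := MvPolynomial.aeval y
  have h1 : (Ideal.Quotient.mk q).comp θ.toRingHom =
      (MvPolynomial.aeval x : MvPolynomial ι (V ⧸ v) →ₐ[V ⧸ v] S ⧸ q).toRingHom.comp
        (MvPolynomial.map (Ideal.Quotient.mk v)) := by
    refine MvPolynomial.ringHom_ext (fun a => ?_) (fun i => ?_)
    · simp only [θ, RingHom.comp_apply, AlgHom.toRingHom_eq_coe, RingHom.coe_coe,
        MvPolynomial.aeval_C, MvPolynomial.map_C]
      rfl
    · simp only [θ, RingHom.comp_apply, AlgHom.toRingHom_eq_coe, RingHom.coe_coe,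
        MvPolynomial.aeval_X, MvPolynomial.map_X, hy]
  have h2 : q.comap θ.toRingHom = RingHom.ker ((Ideal.Quotient.mk q).comp θ.toRingHom) := by
    rw [← RingHom.comap_ker, Ideal.mk_ker]
  have h3 : Function.Injective
      (MvPolynomial.aeval x : MvPolynomial ι (V ⧸ v) →ₐ[V ⧸ v] S ⧸ q).toRingHom := hx.1
  refine ⟨ι, hfin, θ, ?_, ?_⟩
  · rw [h2, h1]
    have h4 : RingHom.ker ((MvPolynomial.aeval x : MvPolynomial ι (V ⧸ v) →ₐ[V ⧸ v] S ⧸ q).toRingHom.comp
          (MvPolynomial.map (Ideal.Quotient.mk v))) =
        RingHom.ker (MvPolynomial.map (σ := ι) (Ideal.Quotient.mk v)) := by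
      ext p
      simp only [RingHom.mem_ker, RingHom.comp_apply]
      exact map_eq_zero_iff _ h3
    rw [h4, MvPolynomial.ker_map, Ideal.mk_ker]
  · intro s
    have halg := hx.isAlgebraic
    obtain ⟨p, hp0, hp⟩ := halg.isAlgebraic (Ideal.Quotient.mk q s)
    -- the map from the polynomial ring to the subalgebra
    let ρ : MvPolynomial ι V →+* Algebra.adjoin (V ⧸ v) (Set.range x) :=
      ((Ideal.Quotient.mk q).comp θ.toRingHom).codRestrict
        (Algebra.adjoin (V ⧸ v) (Set.range x)).toSubring (fun a => by
          rw [h1]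
          rw [Algebra.adjoin_range_eq_range_aeval]
          exact ⟨_, rfl⟩)
    have hρ : Function.Surjective ρ := by
      rintro ⟨z, hz⟩
      have hz' := hz
      rw [Algebra.adjoin_range_eq_range_aeval] at hz'
      obtain ⟨w, hw⟩ := hz'
      obtain ⟨w', rfl⟩ := MvPolynomial.map_surjective (σ := ι) _
        (Ideal.Quotient.mk_surjective (I := v)) w
      refine ⟨w', Subtype.ext ?_⟩
      have := congrArg (fun f => f w') h1
      exact this.trans hw
    obtain ⟨p', rfl⟩ := Polynomial.map_surjective ρ hρ p
    refine ⟨p', ?_, ?_⟩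
    · by_contra hcon
      push Not at hcon
      apply hp0
      ext n
      rw [Polynomial.coeff_map, Polynomial.coeff_zero]
      have h5 := hcon n
      rw [h2, RingHom.mem_ker] at h5
      exact congrArg Subtype.val (Subtype.ext h5 : ρ (p'.coeff n) = 0)
    · rw [← Ideal.Quotient.eq_zero_iff_mem, Polynomial.hom_eval₂]
      rw [Polynomial.aeval_def, Polynomial.eval₂_map] at hp
      exact hp

/-- A ring map from a localization at a prime to a local ring. -/
theorem exists_local_lift {C : Type u} [CommRing C] (n : Ideal C) [n.IsPrime] {T : Type u}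
    [CommRing T] [IsLocalRing T] (ψ : C →+* T) (hn : n = (maximalIdeal T).comap ψ)
    (B : Type u) [CommRing B] [Algebra C B] [IsLocalization.AtPrime B n] :
    ∃ g : B →+* T, IsLocalHom g ∧ g.comp (algebraMap C B) = ψ := by
  have hunit : ∀ y : n.primeCompl, IsUnit (ψ y) := by
    rintro ⟨y, hy⟩
    by_contra h
    have h1 : ψ y ∈ maximalIdeal T := h
    exact hy (by rw [hn]; exact h1)
  let f : B →+* T := IsLocalization.lift (M := n.primeCompl) (S := B) hunit
  have hf : f.comp (algebraMap C B) = ψ := IsLocalization.lift_comp hunit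
  refine ⟨f, ⟨fun a ha => ?_⟩, hf⟩
  obtain ⟨x, s, rfl⟩ := IsLocalization.exists_mk'_eq n.primeCompl a
  rw [IsLocalization.AtPrime.isUnit_mk'_iff B n]
  intro hx
  have h1 : f (IsLocalization.mk' B x s) * ψ s = ψ x := by
    have := congrArg f (IsLocalization.mk'_spec B x s)
    rw [map_mul] at this
    rw [← hf]
    exact this
  have h2 : IsUnit (ψ x) := by
    rw [← h1]
    exact ha.mul (hunit s)
  have h3 : ψ x ∈ maximalIdeal T := by
    rw [hn] at hx
    exact hx
  exact h3 h2

theorem comap_max {A B : Type u} [CommRing A] [IsLocalRing A] [CommRing B] [IsLocalRing B]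
    (f : A →+* B) [IsLocalHom f] : (maximalIdeal B).comap f = maximalIdeal A :=
  ((IsLocalRing.local_hom_TFAE f).out 0 4).1 ‹IsLocalHom f›

theorem exists_lift_tensor (D W S T : Type u) [CommRing D] [CommRing W] [CommRing S] [CommRing T]
    [Algebra D W] [Algebra D S] (g : W →+* T) (φ : S →+* T)
    (h : g.comp (algebraMap D W) = φ.comp (algebraMap D S)) :
    ∃ ψ : W ⊗[D] S →+* T, ψ.comp (algebraMap W (W ⊗[D] S)) = g ∧
      ψ.comp (Algebra.TensorProduct.includeRight : S →ₐ[D] W ⊗[D] S).toRingHom = φ := by
  let _ : Algebra D T := (φ.comp (algebraMap D S)).toAlgebra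
  let gW : W →ₐ[D] T := { g with commutes' := fun d => congrArg (fun t => t d) h }
  let gS : S →ₐ[D] T := { φ with commutes' := fun d => rfl }
  let ψ : W ⊗[D] S →ₐ[D] T := Algebra.TensorProduct.lift gW gS (fun _ _ => Commute.all _ _)
  refine ⟨ψ.toRingHom, ?_, ?_⟩
  · ext w
    change ψ (w ⊗ₜ 1) = _
    simp only [ψ, Algebra.TensorProduct.lift_tmul, map_one, mul_one]
    rfl
  · ext s
    change ψ (1 ⊗ₜ s) = _
    simp only [ψ, Algebra.TensorProduct.lift_tmul, map_one, one_mul]
    rfl

theorem strict_tensor (D P W S L T : Type u) [CommRing D] [CommRing P] [IsLocalRing P]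
    [CommRing W] [IsLocalRing W] [CommRing S] [CommRing L] [IsLocalRing L] [CommRing T]
    [IsLocalRing T] [Algebra D P] (Q : Ideal D) [Q.IsPrime] [IsLocalization.AtPrime P Q]
    [Algebra P W] [IsLocalHom (algebraMap P W)] [hW : Hensel.IsStrictHenselization P W]
    [Algebra D W] [IsScalarTower D P W] [Algebra D S] (q : Ideal S) [q.IsPrime] [Algebra S L]
    [IsLocalization.AtPrime L q] [Algebra L T] [IsLocalHom (algebraMap L T)]
    [hT : Hensel.IsStrictHenselization L T] (hQ : Q = q.comap (algebraMap D S))
    (g : W →+* T) [IsLocalHom g]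
    (ψ : W ⊗[D] S →+* T) (hψW : ψ.comp (algebraMap W (W ⊗[D] S)) = g)
    (hψS : ψ.comp (Algebra.TensorProduct.includeRight : S →ₐ[D] W ⊗[D] S).toRingHom =
      (algebraMap L T).comp (algebraMap S L))
    (n : Ideal (W ⊗[D] S)) [n.IsPrime] (hn : n = (maximalIdeal T).comap ψ)
    (B : Type u) [CommRing B] [IsLocalRing B] [Algebra (W ⊗[D] S) B]
    [IsLocalization.AtPrime B n] :
    ∃ (_ : Algebra B T) (_ : IsLocalHom (algebraMap B T)), Hensel.IsStrictHenselization B T := by
  obtain ⟨β, hβloc, hβ⟩ := exists_local_lift n ψ hn B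
  let _ : Algebra B T := β.toAlgebra
  have hloc : IsLocalHom (algebraMap B T) := hβloc
  refine ⟨inferInstance, hloc, ?_⟩
  let i : W →+* B := (algebraMap (W ⊗[D] S) B).comp (algebraMap W (W ⊗[D] S))
  have hi : IsLocalHom i := by
    have h1 : β.comp i = g := by
      rw [← RingHom.comp_assoc, hβ, hψW]
    have h2 : IsLocalHom (β.comp i) := by rw [h1]; infer_instance
    exact isLocalHom_of_comp i β
  let jS : S →+* W ⊗[D] S := (Algebra.TensorProduct.includeRight : S →ₐ[D] W ⊗[D] S).toRingHom
  have hBn : (maximalIdeal B).comap (algebraMap (W ⊗[D] S) B) = n :=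
    IsLocalization.AtPrime.under_maximalIdeal B n
  have hLq : (maximalIdeal L).comap (algebraMap S L) = q :=
    IsLocalization.AtPrime.under_maximalIdeal L q
  have hjn : q = (maximalIdeal B).comap ((algebraMap (W ⊗[D] S) B).comp jS) := by
    rw [← Ideal.comap_comap, hBn, hn, Ideal.comap_comap, hψS, ← Ideal.comap_comap, comap_max, hLq]
  obtain ⟨j, hjloc, hj⟩ := exists_local_lift q ((algebraMap (W ⊗[D] S) B).comp jS) hjn L
  obtain ⟨e, -, he⟩ := exists_local_lift Q ((algebraMap S L).comp (algebraMap D S)) (by
    rw [← Ideal.comap_comap, hLq, hQ]) P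
  refine isStrict_of_jointly_epi i j e ?_ ?_ ?_
  · refine IsLocalization.ringHom_ext Q.primeCompl ?_
    have e1 : (j.comp e).comp (algebraMap D P) =
        (algebraMap (W ⊗[D] S) B).comp (jS.comp (algebraMap D S)) := by
      rw [RingHom.comp_assoc, he, ← RingHom.comp_assoc, hj, RingHom.comp_assoc]
    have e2 : (i.comp (algebraMap P W)).comp (algebraMap D P) =
        (algebraMap (W ⊗[D] S) B).comp ((algebraMap W (W ⊗[D] S)).comp (algebraMap D W)) := by
      rw [IsScalarTower.algebraMap_eq D P W]
      rfl
    rw [e1, e2]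
    congr 1
    rw [← IsScalarTower.algebraMap_eq]
    exact ((Algebra.TensorProduct.includeRight : S →ₐ[D] W ⊗[D] S).comp_algebraMap).symm
  · refine IsLocalization.ringHom_ext q.primeCompl ?_
    rw [RingHom.comp_assoc, hj, ← RingHom.comp_assoc]
    change (β.comp (algebraMap (W ⊗[D] S) B)).comp jS = _
    rw [hβ, hψS]
  · intro T₂ _ u v h1 h2
    refine IsLocalization.ringHom_ext n.primeCompl ?_
    have h3 : (u.comp (algebraMap (W ⊗[D] S) B)).comp jS =
        (v.comp (algebraMap (W ⊗[D] S) B)).comp jS := by
      rw [RingHom.comp_assoc, RingHom.comp_assoc, ← hj, ← RingHom.comp_assoc, ← RingHom.comp_assoc,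
        h2]
    refine Algebra.TensorProduct.ringHom_ext ?_ ?_
    · exact h1
    · exact h3

theorem integral_aux (D P S L : Type u) [CommRing D] [CommRing P] [IsLocalRing P] [CommRing S]
    [CommRing L] [IsLocalRing L] [Algebra D P] (Q : Ideal D) [Q.IsPrime]
    [IsLocalization.AtPrime P Q] [Algebra D S] (q : Ideal S) [q.IsPrime] [Algebra S L]
    [IsLocalization.AtPrime L q]
    (hp : ∀ s : S, ∃ p : Polynomial D, (∃ n, p.coeff n ∉ Q) ∧ p.eval₂ (algebraMap D S) s ∈ q)
    (e : P →+* L) [IsLocalHom e]
    (he : e.comp (algebraMap D P) = (algebraMap S L).comp (algebraMap D S)) :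
    (ResidueField.map e).IsIntegral := by
  let _ : Algebra (ResidueField P) (ResidueField L) := (ResidueField.map e).toAlgebra
  have hPQ : (maximalIdeal P).comap (algebraMap D P) = Q :=
    IsLocalization.AtPrime.under_maximalIdeal P Q
  have hLq : (maximalIdeal L).comap (algebraMap S L) = q :=
    IsLocalization.AtPrime.under_maximalIdeal L q
  have key : ∀ s : S, IsIntegral (ResidueField P) (residue L (algebraMap S L s)) := by
    intro s
    obtain ⟨p, ⟨n, hn⟩, hp⟩ := hp s
    rw [← isAlgebraic_iff_isIntegral]
    refine ⟨p.map ((residue P).comp (algebraMap D P)), ?_, ?_⟩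
    · intro h0
      have h1 := congrArg (fun t => t.coeff n) h0
      simp only [Polynomial.coeff_map, Polynomial.coeff_zero, RingHom.comp_apply] at h1
      rw [residue_eq_zero_iff] at h1
      apply hn
      rw [← hPQ]
      exact h1
    · rw [Polynomial.aeval_def, Polynomial.eval₂_map]
      have h2 : (algebraMap (ResidueField P) (ResidueField L)).comp
          ((residue P).comp (algebraMap D P)) =
          ((residue L).comp (algebraMap S L)).comp (algebraMap D S) := by
        rw [RingHom.comp_assoc, ← he]
        rfl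
      have h3 : residue L (algebraMap S L s) = ((residue L).comp (algebraMap S L)) s := rfl
      rw [h2, h3, ← Polynomial.hom_eval₂, RingHom.comp_apply, residue_eq_zero_iff]
      rw [← hLq] at hp
      exact hp
  intro z
  change IsIntegral (ResidueField P) z
  obtain ⟨l, rfl⟩ := residue_surjective z
  obtain ⟨s, t, rfl⟩ := IsLocalization.exists_mk'_eq q.primeCompl l
  have h4 : residue L (algebraMap S L t) ≠ 0 := by
    intro h0
    rw [residue_eq_zero_iff] at h0
    exact t.2 (hLq.le h0)
  have h5 : residue L (IsLocalization.mk' L s t) =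
      residue L (algebraMap S L s) * (residue L (algebraMap S L t))⁻¹ := by
    rw [eq_mul_inv_iff_mul_eq₀ h4, ← map_mul, IsLocalization.mk'_spec]
  rw [h5]
  exact (key s).mul (key t).inv

variable (V S : Type u) [CommRing V] [IsDomain V] [IsPrincipalIdealRing V] [CommRing S]
  [Algebra V S] [Algebra.FiniteType V S] (q : Ideal S) [q.IsPrime]
  (L : Type u) [CommRing L] [IsLocalRing L] [Algebra S L] [IsLocalization.AtPrime L q]
  (T : Type u) [CommRing T] [IsLocalRing T] [Algebra L T] [IsLocalHom (algebraMap L T)]
  [hT : Hensel.IsStrictHenselization L T]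

include hT in
/-- The ring version. -/
theorem main_ring :
    ∃ (W : Type u) (_ : CommRing W) (_ : HenselianLocalRing W) (C : Type u) (_ : CommRing C)
      (_ : Algebra W C) (n : Ideal C) (_ : n.IsMaximal),
      IsDomain W ∧ IsPrincipalIdealRing W ∧ (IsField W ↔ q.under V = ⊥) ∧
      IsSepClosed (ResidueField W) ∧ Algebra.FiniteType W C ∧
      n.comap (algebraMap W C) = maximalIdeal W ∧
      ∀ (B : Type u) [CommRing B] [IsLocalRing B] [Algebra C B] [IsLocalization.AtPrime B n],
        ∃ (_ : Algebra B T) (_ : IsLocalHom (algebraMap B T)), Hensel.IsStrictHenselization B T := by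
  have hTh : HenselianLocalRing T := hT.henselian
  have hTs : IsSepClosed (ResidueField T) := hT.isSepClosure.sep_closed
  obtain ⟨ι, hι, θ, hθ, hp⟩ := exists_poly V S q
  let φ : S →+* T := (algebraMap L T).comp (algebraMap S L)
  have hLq : (maximalIdeal L).comap (algebraMap S L) = q :=
    IsLocalization.AtPrime.under_maximalIdeal L q
  have hq : (maximalIdeal T).comap φ = q := by
    rw [← Ideal.comap_comap, comap_max, hLq]
  let Q : Ideal (MvPolynomial ι V) := q.comap θ.toRingHom
  obtain ⟨hD, hP, hF⟩ := PolyLoc.localization_pid V ι (q.under V) Q hθ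
  let P := Localization.AtPrime Q
  obtain ⟨f, hfloc, hf⟩ := exists_local_lift Q (φ.comp θ.toRingHom)
    (by rw [← Ideal.comap_comap, hq]) P
  obtain ⟨W, i1, i2, i3, i4, i5⟩ := Groth.Agent.S0537.result P
  obtain ⟨g, hg⟩ := PolyLoc.exists_extend P T f W
  obtain ⟨hWD, hWP, hWF⟩ := ShAlg.strictHens_pid P W
  have hgloc : IsLocalHom g := by
    have h2 := Groth.Agent.S0538.result P W
    refine ((IsLocalRing.local_hom_TFAE g).out 0 2).2 ?_
    rw [← h2, Ideal.map_map, hg]
    exact ((IsLocalRing.local_hom_TFAE f).out 0 2).1 hfloc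
  -- the algebra `C`
  let _ : Algebra (MvPolynomial ι V) W :=
    ((algebraMap P W).comp (algebraMap (MvPolynomial ι V) P)).toAlgebra
  have hsc : IsScalarTower (MvPolynomial ι V) P W := IsScalarTower.of_algebraMap_eq fun _ => rfl
  let _ : Algebra (MvPolynomial ι V) S := θ.toRingHom.toAlgebra
  obtain ⟨ψ, hψW, hψS⟩ := exists_lift_tensor (MvPolynomial ι V) W S T g φ (by
    change g.comp ((algebraMap P W).comp (algebraMap (MvPolynomial ι V) P)) = φ.comp θ.toRingHom
    rw [← hf, ← hg]
    rfl)
  have hft : Algebra.FiniteType W (W ⊗[MvPolynomial ι V] S) := by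
    have h0 : Algebra.FiniteType (MvPolynomial ι V) S := by
      have hVS : IsScalarTower V (MvPolynomial ι V) S := IsScalarTower.of_algebraMap_eq
        fun a => (θ.commutes a).symm
      exact Algebra.FiniteType.of_restrictScalars_finiteType V (MvPolynomial ι V) S
    exact Algebra.FiniteType.baseChange W
  -- integrality
  have hint : ((residue T).comp g).IsIntegral := by
    obtain ⟨e, heloc, he⟩ := exists_local_lift Q ((algebraMap S L).comp θ.toRingHom) (by
      rw [← Ideal.comap_comap, hLq]) P
    have h1 := integral_aux (MvPolynomial ι V) P S L Q q hp e he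
    have h2 : (ResidueField.map (algebraMap L T)).IsIntegral := by
      have h3 : Algebra.IsSeparable (ResidueField L) (ResidueField T) :=
        hT.isSepClosure.separable
      have h4 : Algebra.IsIntegral (ResidueField L) (ResidueField T) := inferInstance
      exact h4.isIntegral
    have h5 := RingHom.IsIntegral.trans _ _ h1 h2
    have h6 : ((ResidueField.map (algebraMap L T)).comp (ResidueField.map e)).comp (residue P) =
        ((residue T).comp g).comp (algebraMap P W) := by
      have h7 : (algebraMap L T).comp e = f := by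
        refine IsLocalization.ringHom_ext Q.primeCompl ?_
        rw [RingHom.comp_assoc, he, hf]
        rfl
      have h8 : ((residue T).comp g).comp (algebraMap P W) = (residue T).comp f := by
        rw [RingHom.comp_assoc, hg]
      rw [h8, ← h7]
      rfl
    refine RingHom.IsIntegral.tower_top (algebraMap P W) _ ?_
    rw [← h6]
    exact RingHom.IsIntegral.trans _ _
      (RingHom.isIntegral_of_surjective _ residue_surjective) h5
  have hnmax : ((maximalIdeal T).comap ψ).IsMaximal := by
    have h1 : ((residue T).comp ψ).IsIntegral := by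
      have h2 : ((residue T).comp ψ).comp (algebraMap W (W ⊗[MvPolynomial ι V] S)) =
          (residue T).comp g := by
        rw [RingHom.comp_assoc, hψW]
      refine RingHom.IsIntegral.tower_top (algebraMap W (W ⊗[MvPolynomial ι V] S)) _ ?_
      rw [h2]
      exact hint
    have h2 : (maximalIdeal T).comap ψ = (⊥ : Ideal (ResidueField T)).comap ((residue T).comp ψ) := by
      rw [← Ideal.comap_comap, ← RingHom.ker_eq_comap_bot, ker_residue]
    rw [h2]
    exact Ideal.isMaximal_comap_of_isIntegral_of_isMaximal' _ h1 ⊥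
  refine ⟨W, i1, i5.henselian, W ⊗[MvPolynomial ι V] S, inferInstance, inferInstance,
    (maximalIdeal T).comap ψ, hnmax, hWD, hWP,
    hWF.trans hF, i5.isSepClosure.sep_closed, hft, ?_, ?_⟩
  · rw [Ideal.comap_comap, hψW]
    exact comap_max g
  · intro B _ _ _ _
    exact strict_tensor (MvPolynomial ι V) P W S L T Q q rfl g ψ hψW hψS _ rfl B

/-- The scheme version: the strict henselization at a point `x` of a scheme locally of finite type
over a principal ideal domain `V` is the strict henselization at a closed point of the special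
fibre of a scheme of finite type over a strictly henselian local principal ideal domain. -/
theorem main_sch (V : Type u) [CommRing V] [IsDomain V] [IsPrincipalIdealRing V] {X : Scheme.{u}}
    (f : X ⟶ Spec (CommRingCat.of V)) [LocallyOfFiniteType f] (x : X)
    (T : Type u) [CommRing T] [IsLocalRing T] [Algebra (X.presheaf.stalk x) T]
    [IsLocalHom (algebraMap (X.presheaf.stalk x) T)]
    [Hensel.IsStrictHenselization (X.presheaf.stalk x) T] :
    ∃ (W : Type u) (_ : CommRing W) (_ : HenselianLocalRing W) (X' : Scheme.{u})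
      (f' : X' ⟶ Spec (CommRingCat.of W)) (x' : X'),
      IsDomain W ∧ IsPrincipalIdealRing W ∧ (IsField W ↔ (f x).asIdeal = ⊥) ∧
      IsSepClosed (ResidueField W) ∧ LocallyOfFiniteType f' ∧ QuasiCompact f' ∧
      IsClosed ({x'} : Set X') ∧
      f' x' = ((IsLocalRing.closedPoint W : PrimeSpectrum W) : ↥(Spec (CommRingCat.of W))) ∧
      ∃ (_ : Algebra (X'.presheaf.stalk x') T) (_ : IsLocalHom (algebraMap (X'.presheaf.stalk x') T)),
        Hensel.IsStrictHenselization (X'.presheaf.stalk x') T := by
  obtain ⟨U, hU, hxU, -⟩ := exists_isAffineOpen_mem_and_subset (X := X) (x := x) (U := ⊤) trivial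
  let ρ : CommRingCat.of V ⟶ Γ(X, U) := Spec.preimage (hU.fromSpec ≫ f)
  have hρ : Spec.map ρ = hU.fromSpec ≫ f := Spec.map_preimage _
  have hft : ρ.hom.FiniteType := by
    have h1 : LocallyOfFiniteType (Spec.map ρ) := by rw [hρ]; infer_instance
    exact (HasRingHomProperty.Spec_iff (P := @LocallyOfFiniteType)).1 h1
  let _ : Algebra V Γ(X, U) := ρ.hom.toAlgebra
  have hft' : Algebra.FiniteType V Γ(X, U) := hft
  let q : Ideal Γ(X, U) := (hU.primeIdealOf ⟨x, hxU⟩).asIdeal
  have hq : q.under V = (f x).asIdeal := by
    have h1 : (Spec.map ρ) (hU.primeIdealOf ⟨x, hxU⟩) = f x := by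
      rw [hρ]
      exact (Scheme.Hom.comp_apply _ _ _).trans (congrArg f (hU.fromSpec_primeIdealOf ⟨x, hxU⟩))
    exact congrArg PrimeSpectrum.asIdeal h1
  let _ : Algebra Γ(X, U) (X.presheaf.stalk x) := (X.presheaf.germ U x hxU).hom.toAlgebra
  have hloc : IsLocalization.AtPrime (X.presheaf.stalk x) q := hU.isLocalization_stalk ⟨x, hxU⟩
  obtain ⟨W, i1, i2, C, i3, i4, n, i5, h1, h2, h3, h4, h5, h6, h7⟩ :=
    main_ring V Γ(X, U) q (X.presheaf.stalk x) T
  have hn : n.IsPrime := i5.isPrime
  let x' : Spec (CommRingCat.of C) := ⟨n, hn⟩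
  have h8 : LocallyOfFiniteType (Spec.map (CommRingCat.ofHom (algebraMap W C))) := by
    rw [HasRingHomProperty.Spec_iff (P := @LocallyOfFiniteType)]
    exact RingHom.finiteType_algebraMap.2 h5
  let k : Algebra C ((Spec (CommRingCat.of C)).presheaf.stalk x') :=
    StructureSheaf.stalkAlgebra C x'
  have h9 : IsLocalization.AtPrime ((Spec (CommRingCat.of C)).presheaf.stalk x') n :=
    StructureSheaf.IsLocalization.to_stalk C x'
  refine ⟨W, i1, i2, Spec (CommRingCat.of C), Spec.map (CommRingCat.ofHom (algebraMap W C)),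
    x', h1, h2, ?_, h4, h8, inferInstance, ?_, ?_, h7 _⟩
  · rw [h3, hq]
  · exact (PrimeSpectrum.isClosed_singleton_iff_isMaximal (x' : PrimeSpectrum C)).2 i5
  · exact PrimeSpectrum.ext h6

end K549.ShModel
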