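import Groth.Agent.Etbc.H209.Induct
import Groth.Agent.S3240
import Groth.Agent.S0124
import Mathlib.Order.KrullDimension
import Mathlib.Topology.KrullDimension

/-!
# Étale cohomology of uniquely divisible sheaves

`main`: `X` Noetherian of Krull dimension `≤ d`, `F` a uniquely divisible abelian étale sheaf: `H^i(X, F) = 0`, `i > d`.
-/

set_option autoImplicit false
universe u

open CategoryTheory CategoryTheory.Limits AlgebraicGeometry Opposite TopologicalSpace

namespace K549.UDiv

open Groth.Agent Groth.Agent.CurvesA Groth.Agent.CurvesA.SubSheafEt Groth.Agent.Etbase.EtSections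
  Groth.Agent.EtpbcA.Artin Groth.Agent.CurvesA.Punctual Groth.Agent.EtpbcA
  Groth.Agent.EtpbcA.SuppFilt Groth.Agent.Etbc.H209.PrimFilt Groth.Agent.Etbc.H209

variable {X Y : Scheme.{u}}

/-- Uniquely divisible sheaves. -/
def UD (F : EtCoh.Ab X) : Prop := ∀ m : ℕ, 0 < m → IsIso (m • 𝟙 F)

theorem nsmul_app (F : EtCoh.Ab X) (m : ℕ) (U : X.Etale) (s : EtCoh.sect F U) :
    (m • 𝟙 F : F ⟶ F).hom.app (op U) s = m • s := by
  induction m with
  | zero => simp
  | succ m ih =>
    rw [succ_nsmul, succ_nsmul, ← ih]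
    rfl

theorem isIso_iff (F : EtCoh.Ab X) (m : ℕ) : IsIso (m • 𝟙 F) ↔
    ∀ U : X.Etale, Function.Bijective (fun s : EtCoh.sect F U => m • s) := by
  constructor
  · intro h U
    have h1 : IsIso ((sheafToPresheaf _ _).map (m • 𝟙 F)) := inferInstance
    have h2 : IsIso (((sheafToPresheaf _ _).map (m • 𝟙 F)).app (op U)) := inferInstance
    have h3 := (ConcreteCategory.isIso_iff_bijective _).1 h2
    have h4 : (fun s : EtCoh.sect F U => m • s) =
        fun s : EtCoh.sect F U => (m • 𝟙 F : F ⟶ F).hom.app (op U) s :=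
      funext fun s => (nsmul_app F m U s).symm
    rw [h4]
    exact h3
  · intro h
    have h1 : ∀ U : X.Etaleᵒᵖ, IsIso (((sheafToPresheaf _ _).map (m • 𝟙 F)).app U) := by
      intro U
      rw [ConcreteCategory.isIso_iff_bijective]
      have h4 : (fun s : EtCoh.sect F U.unop => m • s) =
          fun s : EtCoh.sect F U.unop => (m • 𝟙 F : F ⟶ F).hom.app (op U.unop) s :=
        funext fun s => (nsmul_app F m U.unop s).symm
      have h5 := h U.unop
      rw [h4] at h5
      exact h5
    have h2 : IsIso ((sheafToPresheaf _ _).map (m • 𝟙 F)) := NatIso.isIso_of_isIso_app _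
    exact isIso_of_reflects_iso (m • 𝟙 F) (sheafToPresheaf _ _)

theorem ud_iff (F : EtCoh.Ab X) : UD F ↔
    ∀ (U : X.Etale) (m : ℕ), 0 < m → Function.Bijective (fun s : EtCoh.sect F U => m • s) := by
  constructor
  · intro h U m hm
    exact (isIso_iff F m).1 (h m hm) U
  · intro h m hm
    exact (isIso_iff F m).2 fun U => h U m hm

theorem UD.of_functor {F : EtCoh.Ab X} (hF : UD F) (T : EtCoh.Ab X ⥤ EtCoh.Ab Y) [T.Additive] :
    UD (T.obj F) := by
  intro m hm
  have := hF m hm
  have h : T.map (m • 𝟙 F) = m • 𝟙 (T.obj F) := by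
    rw [Functor.map_nsmul, T.map_id]
  rw [← h]
  infer_instance

theorem UD.kernel {F G : EtCoh.Ab X} (hF : UD F) (hG : UD G) (u : F ⟶ G) : UD (kernel u) := by
  intro m hm
  have := hF m hm
  have := hG m hm
  have h : kernel.map u u (m • 𝟙 F) (m • 𝟙 G) (by simp) = m • 𝟙 (Limits.kernel u) := by
    rw [← cancel_mono (kernel.ι u)]
    simp
  rw [← h]
  infer_instance

theorem UD.cokernel {F G : EtCoh.Ab X} (hF : UD F) (hG : UD G) (u : F ⟶ G) : UD (cokernel u) := by
  intro m hm
  have := hF m hm
  have := hG m hm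
  have h : cokernel.map u u (m • 𝟙 F) (m • 𝟙 G) (by simp) = m • 𝟙 (Limits.cokernel u) := by
    rw [← cancel_epi (cokernel.π u)]
    simp
  rw [← h]
  infer_instance

theorem UD.sub {F : EtCoh.Ab X} (hF : UD F) (Z : Set X) : UD (SubSheafEt.sub (suppData F Z)) := by
  rw [ud_iff] at hF ⊢
  intro U m hm
  constructor
  · intro s t hst
    apply Subtype.ext
    apply (hF U m hm).1
    exact congrArg Subtype.val hst
  · intro s
    obtain ⟨t, ht⟩ := (hF U m hm).2 s.1
    have ht' : m • t = s.1 := ht
    refine ⟨⟨t, ?_⟩, Subtype.ext ht⟩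
    intro u hu
    obtain ⟨V, g, v, hu', hv⟩ := s.2 u hu
    refine ⟨V, g, v, hu', ?_⟩
    apply (hF V m hm).1
    change m • F.obj.map g.op t = m • 0
    rw [← map_nsmul, ht', hv, nsmul_zero]

/-- Multiplication by `m > 0` is injective on the cohomology of a uniquely divisible sheaf. -/
theorem UD.injective_H {F : EtCoh.Ab X} (hF : UD F) (n m : ℕ) (hm : 0 < m) (x : EtCoh.H X F n)
    (hx : m • x = 0) : x = 0 := by
  have := hF m hm
  have hadd := Groth.Agent.S0124.additive_HF X n
  have h1 : IsIso ((EtCoh.HF X n).map (m • 𝟙 F)) := inferInstance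
  have h2 : (EtCoh.HF X n).map (m • 𝟙 F) = m • 𝟙 ((EtCoh.HF X n).obj F) := by
    rw [Functor.map_nsmul, (EtCoh.HF X n).map_id]
  rw [h2] at h1
  have h3 := ((ConcreteCategory.isIso_iff_bijective _).1 h1).1
  have h4 : ∀ y : ((EtCoh.HF X n).obj F : Type (u + 1)),
      (m • 𝟙 ((EtCoh.HF X n).obj F)) y = m • y := by
    intro y
    rfl
  exact h3 ((h4 x).trans (hx.trans ((nsmul_zero m).symm.trans (h4 0).symm)))

section dim

/-- The dimension of the closure of a point. -/
noncomputable def dimPt (x : X) : ℕ :=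
  (Order.height (⟨closure {x}, isIrreducible_singleton.closure, isClosed_closure⟩ :
    IrreducibleCloseds X)).toNat

theorem height_le {d : ℕ} (hd : topologicalKrullDim ↥X ≤ d) (Z : IrreducibleCloseds X) :
    Order.height Z ≤ d := by
  have h1 : ((Order.height Z : ℕ∞) : WithBot ℕ∞) ≤ Order.krullDim (IrreducibleCloseds X) :=
    Order.height_le_krullDim Z
  have h2 : ((Order.height Z : ℕ∞) : WithBot ℕ∞) ≤ ((d : ℕ∞) : WithBot ℕ∞) := h1.trans hd
  exact WithBot.coe_le_coe.1 h2

theorem dimPt_le {d : ℕ} (hd : topologicalKrullDim ↥X ≤ d) (x : X) : dimPt x ≤ d := by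
  unfold dimPt
  exact ENat.toNat_le_of_le_natCast (height_le hd _)

theorem dimPt_lt {d : ℕ} (hd : topologicalKrullDim ↥X ≤ d) (x y : X) (h : x ⤳ y) (hne : x ≠ y) :
    dimPt y < dimPt x := by
  have hlt : (⟨closure {y}, isIrreducible_singleton.closure, isClosed_closure⟩ :
      IrreducibleCloseds X) < ⟨closure {x}, isIrreducible_singleton.closure, isClosed_closure⟩ := by
    refine lt_of_le_of_ne (h.closure_subset : closure {y} ⊆ closure {x}) fun e => hne ?_
    have e' : closure {y} = closure {x} := congrArg (fun Z : IrreducibleCloseds X => (Z : Set X)) e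
    have h2 : y ⤳ x := by
      rw [specializes_iff_mem_closure, e']
      exact subset_closure rfl
    exact (h.antisymm h2).eq
  have hf := (height_le hd (⟨closure {y}, isIrreducible_singleton.closure, isClosed_closure⟩ :
    IrreducibleCloseds X)).trans_lt (ENat.natCast_lt_top d)
  have hf' := (height_le hd (⟨closure {x}, isIrreducible_singleton.closure, isClosed_closure⟩ :
    IrreducibleCloseds X)).trans_lt (ENat.natCast_lt_top d)
  have h3 := Order.height_strictMono hlt hf
  unfold dimPt
  rw [← ENat.natCast_toNat hf.ne, ← ENat.natCast_toNat hf'.ne] at h3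
  exact Nat.cast_lt.1 h3

end dim

section main

variable [IsNoetherian X] (φ : X → ℕ) (hφ : ∀ x y : X, x ⤳ y → x ≠ y → φ y < φ x)

/-- Vanishing for the sheaves `i_{x*} G`. -/
theorem van_push (x : X) (G : EtCoh.Ab (Spec (X.residueField x))) (hG : UD G) (n : ℕ) (hn : 1 ≤ n) :
    Subsingleton (EtCoh.H X ((EtCoh.push (X.fromSpecResidueField x)).obj G) n) := by
  refine subsingleton_of_forall_eq 0 fun y => ?_
  have h1 := (Groth.Agent.S3240.result X x G n hn).2
  have h2 : UD ((EtCoh.push (X.fromSpecResidueField x)).obj G) := hG.of_functor _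
  obtain ⟨m, hm, hy⟩ := isOfFinAddOrder_iff_nsmul_eq_zero.1 (h1 y)
  exact h2.injective_H n m hm y hy

include hφ in
/-- Vanishing for sheaves with finitely many points of the support where `φ = m`. -/
theorem van_finite (m : ℕ)
    (ih : ∀ F : EtCoh.Ab X, UD F →
      (∀ x ∈ EtPBC.supp F, φ x < m) → ∀ n, m ≤ n → Subsingleton (EtCoh.H X F n))
    (T : Finset X) : ∀ F : EtCoh.Ab X, UD F →
      (∀ x ∈ EtPBC.supp F, φ x < m + 1) → (∀ x ∈ EtPBC.supp F, φ x = m → x ∈ T) →
      ∀ n, m + 1 ≤ n → Subsingleton (EtCoh.H X F n) := by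
  classical
  induction T using Finset.induction_on with
  | empty =>
    intro F hF hs hT n hn
    refine ih F hF (fun x hx => ?_) n (by omega)
    have h2 := hs x hx
    have h3 : φ x ≠ m := fun h => (Finset.notMem_empty x) (hT x hx h)
    omega
  | insert x T hxT ihT =>
    intro F hF hs hT n hn
    by_cases hx : x ∈ EtPBC.supp F ∧ φ x = m
    · obtain ⟨hxF, hxm⟩ := hx
      obtain ⟨n, rfl⟩ : ∃ k, n = k + 1 := ⟨n - 1, by omega⟩
      let i := X.fromSpecResidueField x
      let u := (EtCoh.pullPushAdj i).unit.app F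
      have hxr : x ∈ Set.range i := by
        rw [X.range_fromSpecResidueField x]
        rfl
      have hG : UD ((EtCoh.pull i).obj F) := hF.of_functor _
      have hiG : UD ((EtCoh.push i).obj ((EtCoh.pull i).obj F)) := hG.of_functor _
      refine Induct.van_of_ker_coker u n ?_ (van_push x _ hG (n + 1) (by omega)) ?_
      · have hsub : EtPBC.supp (kernel u) ⊆ EtPBC.supp F := SuppCons.supp_subset_of_mono (kernel.ι u)
        refine ihT _ (hF.kernel hiG u) (fun y hy => hs y (hsub hy))
          (fun y hy hym => ?_) (n + 1) hn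
        have h2 := hT y (hsub hy) hym
        rw [Finset.mem_insert] at h2
        refine h2.resolve_left fun h3 => ?_
        subst h3
        exact UnitPt.not_mem_supp_kernel i F hxr hy
      · refine ih _ (hF.cokernel hiG u) (fun y hy => ?_) n (by omega)
        have h2 : y ∈ closure (Set.range i) :=
          supp_push_subset i _ (SuppClosed.supp_of_epi (cokernel.π u) hy)
        rw [X.range_fromSpecResidueField x, ← specializes_iff_mem_closure] at h2
        have h3 : x ≠ y := fun h => UnitPt.not_mem_supp_cokernel i F (y := y) (h ▸ hxr) hy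
        rw [← hxm]
        exact hφ x y h2 h3
    · refine ihT F hF hs (fun y hy hym => ?_) n hn
      have h2 := hT y hy hym
      rw [Finset.mem_insert] at h2
      exact h2.resolve_left fun h3 => hx ⟨h3 ▸ hy, h3 ▸ hym⟩

include hφ in
theorem induct (m : ℕ) : ∀ F : EtCoh.Ab X, UD F →
    (∀ x ∈ EtPBC.supp F, φ x < m) → ∀ n, m ≤ n → Subsingleton (EtCoh.H X F n) := by
  induction m with
  | zero =>
    intro F _ hs n _
    have h0 : IsZero F := isZero_of_forall F fun x hx => by
      have := hs x hx
      omega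
    exact CdEtLeray.H_subsingleton_of_isZero h0 n
  | succ m ih =>
    intro F hF hs n hn
    refine van_of_supp_stable' {x | φ x < m + 1} n (fun x y hxy hx => ?_) F hs ?_
    · by_cases h : x = y
      · exact h ▸ hx
      · exact (hφ x y hxy h).trans hx
    · intro Z hZ hZE
      have hfin := Induct.finite_max φ hφ m Z hZ (fun x hx => Nat.lt_succ_iff.1 (hZE hx))
      have hsub := supp_sub F Z
      refine van_finite φ hφ m ih hfin.toFinset _ (hF.sub Z)
        (fun x hx => hs x (hsub hx).2)
        (fun x hx hxm => ?_) n hn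
      rw [Set.Finite.mem_toFinset]
      exact ⟨(hsub hx).1, hxm⟩

end main

theorem main (X : Scheme.{u}) [IsNoetherian X] (d : ℕ)
    (hd : topologicalKrullDim ↥X ≤ d) (F : EtCoh.Ab X) (hF : UD F)
    (i : ℕ) (hi : d < i) : Subsingleton (EtCoh.H X F i) :=
  induct dimPt (dimPt_lt hd) i F hF (fun x _ => (dimPt_le hd x).trans_lt hi) i le_rfl

end K549.UDiv
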