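import Groth.Agent.EtCd.K549.ProjDim
import Groth.Agent.EtCd.K549.FlatProj
import Groth.Agent.Ega2.H291.ProjClosed
import Groth.Agent.Ega2.H291.MapZero

/-!
# Closed subschemes of projective space defined by homogeneous ideals
-/

set_option autoImplicit false
universe u

open CategoryTheory CategoryTheory.Limits AlgebraicGeometry MvPolynomial TopologicalSpace

namespace K549.ZMap

open CohB1 Groth.Agent.Ega2.H291.QuotGr K549.ProjDim

variable {A : Type u} [CommRing A] {N : ℕ}

section zmap

variable {J : Ideal (MvPolynomial (Fin (N + 1)) A)} (hJ : J.IsHomogeneous (polyGrading N A))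

/-- The closed subscheme of projective space defined by a homogeneous ideal. -/
noncomputable def ZS : Scheme.{u} :=
  letI := gradedAlgebra (polyGrading N A) hJ
  Proj (gr (polyGrading N A) J)

/-- Its closed immersion. -/
noncomputable def zmap : ZS hJ ⟶ ProjSpace N A :=
  letI := gradedAlgebra (polyGrading N A) hJ
  Proj.map (mkHom (polyGrading N A) J) (Groth.Agent.Sga5.ProjSurj.irrelevant_le_map
    (f := mkHom (polyGrading N A) J) (fun _ _ hb => hb))

instance isClosedImmersion_zmap : IsClosedImmersion (zmap hJ) :=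
  letI := gradedAlgebra (polyGrading N A) hJ
  Groth.Agent.Sga5.ProjSurj.isClosedImmersion_map _ (fun _ _ hb => hb)

theorem mem_range_zmap_iff (x : ProjSpace N A) : x ∈ Set.range (zmap hJ) ↔ J ≤ idl x := by
  letI := gradedAlgebra (polyGrading N A) hJ
  have h := Groth.Agent.Sga5.ProjSurj.mem_range_map_iff
    (f := mkHom (polyGrading N A) J) (Groth.Agent.Sga5.ProjSurj.irrelevant_le_map
      (f := mkHom (polyGrading N A) J) (fun _ _ hb => hb)) (fun _ _ hb => hb) x
  refine h.trans ⟨fun h' a ha => h' ?_, fun h' a ha => h' ?_⟩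
  · change Ideal.Quotient.mk J a = 0
    exact Ideal.Quotient.eq_zero_iff_mem.mpr ha
  · have h2 : Ideal.Quotient.mk J a = 0 := ha
    exact Ideal.Quotient.eq_zero_iff_mem.mp h2

theorem flat_zmap (hflat : ∀ d, Module.Flat A (gr (polyGrading N A) J d)) :
    Flat (zmap hJ ≫ ProjSpace.toSpec N A) := by
  letI := gradedAlgebra (polyGrading N A) hJ
  have h := Groth.Agent.Ega2.H291.MapZero.map_toSpec (mkHom (polyGrading N A) J)
    (Groth.Agent.Sga5.ProjSurj.irrelevant_le_map
      (f := mkHom (polyGrading N A) J) (fun _ _ hb => hb)) (fun r => rfl)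
  have h2 : zmap hJ ≫ ProjSpace.toSpec N A =
      Proj.toSpecZero (gr (polyGrading N A) J) ≫
        Spec.map (CommRingCat.ofHom (algebraMap A (gr (polyGrading N A) J 0))) := h
  rw [h2]
  exact FlatProj.flat_proj _ hflat

end zmap

/-- Functoriality. -/
theorem exists_factor {J I : Ideal (MvPolynomial (Fin (N + 1)) A)}
    (hJ : J.IsHomogeneous (polyGrading N A)) (hI : I.IsHomogeneous (polyGrading N A))
    (h : J ≤ I) : ∃ g : ZS hI ⟶ ZS hJ, g ≫ zmap hJ = zmap hI := by
  letI := gradedAlgebra (polyGrading N A) hJ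
  letI := gradedAlgebra (polyGrading N A) hI
  let φ : gr (polyGrading N A) J →+*ᵍ gr (polyGrading N A) I :=
    { toRingHom := Ideal.Quotient.factor h
      map_mem := by
        rintro d _ ⟨a, ha, rfl⟩
        exact ⟨a, ha, rfl⟩ }
  have hφ : Groth.Agent.Sga5.ProjSurj.DegSurj φ := by
    rintro d _ ⟨a, ha, rfl⟩
    exact ⟨_, mk_mem _ _ ha, rfl⟩
  refine ⟨Proj.map φ (Groth.Agent.Sga5.ProjSurj.irrelevant_le_map hφ), ?_⟩
  exact (Proj.map_comp (mkHom (polyGrading N A) J) φ
    (Groth.Agent.Sga5.ProjSurj.irrelevant_le_map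
      (f := mkHom (polyGrading N A) J) (fun _ _ hb => hb))
    (Groth.Agent.Sga5.ProjSurj.irrelevant_le_map hφ)).symm

/-- Every closed subscheme is of this form. -/
theorem exists_ideal {X : Scheme.{u}} (i : X ⟶ ProjSpace N A) [IsClosedImmersion i] :
    ∃ (I : Ideal (MvPolynomial (Fin (N + 1)) A)) (hI : I.IsHomogeneous (polyGrading N A))
      (e : X ≅ ZS hI), e.hom ≫ zmap hI = i := by
  let T : Fin (N + 1) → MvPolynomial (Fin (N + 1)) A := MvPolynomial.X
  have hT : ∀ k, T k ∈ CohB1.polyGrading N A 1 := fun k => MvPolynomial.isHomogeneous_X A k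
  have hcov := Groth.Agent.CohqB.ProjBC.span_X_ge (A := A) N
  let i' : X ⟶ Proj (CohB1.polyGrading N A) := i
  have : IsClosedImmersion i' := ‹IsClosedImmersion i›
  obtain ⟨e, he⟩ := Groth.Agent.Ega2.H291.ProjClosed.exists_iso T hT hcov i'
  exact ⟨_, Groth.Agent.Ega2.H291.ProjClosed.idl_isHomogeneous T hT i'.ker, e, he⟩

/-- The ideal of the image of a point under base change. -/
theorem idl_pmap {B : Type u} [CommRing B] (φ : A →+* B) (x : ProjSpace N B) :
    idl (Groth.Agent.CohqB.ProjBC.pmap φ N x) = (idl x).comap (MvPolynomial.map φ) := rfl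

end K549.ZMap
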